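import Cfsg.Agent.Fi22.StabU
import Cfsg.Agent.FW.Cent
import Cfsg.Agent.FW.Quasi

/-!
# Type M(22): the class has 3510 members and `C_G(d)` is generated by members of the class
-/

set_option autoImplicit false
set_option linter.unusedSectionVars false

namespace Cfsg.Agent.FW

open Cfsg.Agent.Fi22

open Finset Matrix Module Cfsg.Agent.Uni Cfsg.Agent.ThreeTransp

variable {G : Type*} [Group G] {D : Set G}

namespace H22

variable [Finite G] (h : H22 D)
include h

theorem lev : Lev D 693 180 51 45 12 where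
  cls := h.cls
  irr := h.irr
  cen := h.typ.1
  conn := h.conn
  pr := by
    obtain ⟨⟨d, hd⟩⟩ := h.conn.nonempty
    obtain ⟨a, ha⟩ := h.perp_nonempty hd
    exact ⟨d, hd, a, ha.1, ha.2.1.symm, ha.2.2⟩
  nc := fun d hd => h.exists_nc' hd
  par := h.par

theorem std : Std D 126 30 18 := (std22 h.lev).1

theorem card_DF : (DF D).card = 3510 := (std22 h.lev).2

theorem card_D : Nat.card D = 3510 := by
  rw [← h.card_DF]
  have : D = ((DF D : Finset G) : Set G) := by ext x; simp [mem_DF]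
  rw [Nat.card_coe_set_eq]
  nth_rewrite 1 [this]
  rw [Set.ncard_coe_finset]

/-- elements of `closure (perp D a)` commuting with `e` -/
theorem g5 {a e g : G} (ha : a ∈ D) (he : e ∈ perp D a) (hg : g ∈ Subgroup.closure (perp D a))
    (hge : Commute g e) : g ∈ Subgroup.closure (perp D e) := by
  obtain ⟨F, i1, i2, ⟨Δ⟩⟩ := h.dict ha
  have hF := Δ.hF
  have hae : a ∈ perp D e := perp_symm ha he
  obtain ⟨t, ht⟩ := QuotientGroup.mk_surjective (Δ.ψ ⟨g, hg⟩)
  have ht' : pr t = Δ.ψ ⟨g, hg⟩ := ht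
  have hu0 := Δ.ne e he
  have hu := Δ.iso e he
  -- `act t u` is proportional to `u`
  have h1 : pr (tv (Δ.vec e)) = pr (tv (act t (Δ.vec e))) := by
    have e1 : pr (tv (act t (Δ.vec e))) = pr t * pr (tv (Δ.vec e)) * (pr t)⁻¹ := by
      rw [← tv_conj hF hu t]; rfl
    rw [e1, ht', ← Δ.map e he, ← map_mul, ← map_inv, ← map_mul]
    congr 1
    apply Subtype.ext
    change e = g * e * g⁻¹
    rw [hge.eq, mul_inv_cancel_right]
  obtain ⟨c, hc, hcu⟩ := (pr_tv_inj hF (by norm_num) hu0 (act_ne_zero hu0) hu (by rw [act_form, hu])).1 h1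
  obtain ⟨z, hz, hzc⟩ := exists_scalar_six hF (inv_ne_zero hc)
  have h2 : act (z * t) (Δ.vec e) = Δ.vec e := by
    rw [act_mul, hcu, hzc, smul_smul, inv_mul_cancel₀ hc, one_smul]
  have h3 := mem_RR hF hu0 hu h2
  have h4 : pr (z * t) = Δ.ψ ⟨g, hg⟩ := by
    have : pr (z * t) = pr z * pr t := rfl
    rw [this, pr_eq_one_iff.2 hz, one_mul, ht']
  have key : ∀ k ∈ RR (Δ.vec e), ∃ g' : G, ∃ hg' : g' ∈ Subgroup.closure (perp D a),
      g' ∈ Subgroup.closure (perp D e) ∧ Δ.ψ ⟨g', hg'⟩ = pr k := by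
    intro k hk
    induction hk using Subgroup.closure_induction with
    | mem k hk =>
      obtain ⟨w, hw0, hw, huw, rfl⟩ := hk
      refine ⟨Δ.pt w, Subgroup.subset_closure (Δ.pt_mem hw0 hw), ?_, Δ.map_pt hw0 hw⟩
      by_cases hpe : Δ.pt w = e
      · rw [hpe]; exact h.mem_closure_perp he.1
      · apply Subgroup.subset_closure
        refine ⟨(Δ.pt_mem hw0 hw).1, hpe, ?_⟩
        have e2 := (Δ.commute_pt hu0 hu hw0 hw).2 huw
        rwa [Δ.pt_vec_self he] at e2
    | one => exact ⟨1, one_mem _, one_mem _, Δ.ψ.map_one⟩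
    | mul x y _ _ hx hy =>
      obtain ⟨g1, h1, h1', h1''⟩ := hx
      obtain ⟨g2, h2, h2', h2''⟩ := hy
      refine ⟨g1 * g2, mul_mem h1 h2, mul_mem h1' h2', ?_⟩
      have : (⟨g1 * g2, mul_mem h1 h2⟩ : ↥(Subgroup.closure (perp D a))) = ⟨g1, h1⟩ * ⟨g2, h2⟩ := rfl
      rw [this, map_mul, h1'', h2'']; rfl
    | inv x _ hx =>
      obtain ⟨g1, h1, h1', h1''⟩ := hx
      refine ⟨g1⁻¹, inv_mem h1, inv_mem h1', ?_⟩
      have : (⟨g1⁻¹, inv_mem h1⟩ : ↥(Subgroup.closure (perp D a))) = ⟨g1, h1⟩⁻¹ := rfl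
      rw [this, map_inv, h1'']; rfl
  obtain ⟨g', hg', hg'', hg'''⟩ := key _ h3
  have h5 : (⟨g'⁻¹ * g, mul_mem (inv_mem hg') hg⟩ : ↥(Subgroup.closure (perp D a))) ∈
      Subgroup.center ↥(Subgroup.closure (perp D a)) := by
    rw [← Δ.ker, MonoidHom.mem_ker]
    have : (⟨g'⁻¹ * g, mul_mem (inv_mem hg') hg⟩ : ↥(Subgroup.closure (perp D a))) =
      (⟨g', hg'⟩)⁻¹ * ⟨g, hg⟩ := rfl
    rw [this, map_mul, map_inv, hg''', h4, inv_mul_cancel]
  rw [Dict.mem_center_iff'] at h5
  have e3 : g = g' * (g'⁻¹ * g) := by group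
  rw [e3]
  apply mul_mem hg''
  rcases h.centralizer_perp ha h5 with h6 | h6
  · rw [h6]; exact one_mem _
  · rw [h6]; exact Subgroup.subset_closure hae

open Classical in
theorem card_NF {x : G} (hx : x ∈ D) : (NF D x).card = 693 := h.par.c1 x (mem_DF.2 hx)

theorem data : SC.Data D (fun e => Subgroup.closure (perp D e)) :=
  data_of h.cls (k := 693) (fun x hx => h.card_NF hx) (by rw [h.card_DF]; norm_num)
    (affCommon_of h.std h.cls (by norm_num)) (fun e he => h.mem_closure_perp he)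
    (fun a ha e he g hg hge => h.g5 ha he hg hge)

/-- **The centraliser of a member of the class.** -/
theorem centralizer_eq {d : G} (hd : d ∈ D) : Subgroup.centralizer {d} = Subgroup.closure (perp D d) := by
  ext g
  rw [Subgroup.mem_centralizer_singleton_iff]
  constructor
  · intro hg
    exact h.data.centralizer_le (by rw [h.cls.2.2]; trivial) hd hg
  · intro hg
    have : Subgroup.closure (perp D d) ≤ Subgroup.centralizer {d} := by
      rw [Subgroup.closure_le]
      intro y hy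
      rw [SetLike.mem_coe, Subgroup.mem_centralizer_singleton_iff]
      exact hy.2.2.symm
    exact Subgroup.mem_centralizer_singleton_iff.1 (this hg)

end H22

end Cfsg.Agent.FW
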