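import Cfsg.Agent.Fi22.Co
import Cfsg.Agent.FW.Six

/-!
# Coordinates around a member
-/

set_option autoImplicit false
set_option linter.unusedSectionVars false

namespace Cfsg.Agent.FW

open Cfsg.Agent.Fi22

open Finset Matrix Module Cfsg.Agent.Uni Cfsg.Agent.ThreeTransp

/-- coordinates on the members commuting with `d` -/
structure Co {G : Type*} [Group G] (D : Set G) (d : G) where
  P : C6 → G
  mem : ∀ p, p.iso = true → P p ∈ perp D d
  comm : ∀ p q, p.iso = true → q.iso = true → (Commute (P p) (P q) ↔ p.fm q = .z)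
  conj : ∀ p q, p.iso = true → q.iso = true → P q * P p * (P q)⁻¹ = P (p.cj q)
  smul : ∀ k p, k ≠ .z → p.iso = true → P (C6.sm k p) = P p
  ne : ∀ p q, p.iso = true → q.iso = true → p.np q = true → P p ≠ P q
  surj : ∀ y ∈ perp D d, ∃ p : C6, p.iso = true ∧ y = P p
  line : ∀ p q, p.iso = true → q.iso = true → p.fm q = .z → p.np q = true →
    IsFact D 6 1 [d, P p, P q, P (p.add q), P (p.add (q.sm .w)), P (p.add (q.sm .v))]

variable {G : Type*} [Group G] {D : Set G}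

/-- coordinates from a dictionary and a hyperbolic basis -/
noncomputable def Dict.co [Finite G] (h : H22 D) {d : G} (hd : d ∈ D) {F : Type} [Field F] [Fintype F] (Δ : Dict D d F)
    {U V : Fin 3 → Fin 6 → F} (hb : HB U V) {ω : F} (hω : ω ^ 2 = ω + 1) : Co D d where
  P p := Δ.pt (C6.cv U V ω p)
  mem p hp := by
    obtain ⟨h1, h2⟩ := C6.iso_iff.1 hp
    exact Δ.pt_mem (C6.ne_zero Δ.hF hω hb h1) ((C6.herm_eq_zero Δ.hF hω hb _ _).2 h2)
  comm p q hp hq := by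
    obtain ⟨h1, h2⟩ := C6.iso_iff.1 hp
    obtain ⟨h3, h4⟩ := C6.iso_iff.1 hq
    rw [Δ.commute_pt (C6.ne_zero Δ.hF hω hb h1) ((C6.herm_eq_zero Δ.hF hω hb _ _).2 h2)
      (C6.ne_zero Δ.hF hω hb h3) ((C6.herm_eq_zero Δ.hF hω hb _ _).2 h4), C6.herm_eq_zero Δ.hF hω hb]
  conj p q hp hq := by
    obtain ⟨h1, h2⟩ := C6.iso_iff.1 hp
    obtain ⟨h3, h4⟩ := C6.iso_iff.1 hq
    rw [Δ.pt_conj h.cls (C6.ne_zero Δ.hF hω hb h3) ((C6.herm_eq_zero Δ.hF hω hb _ _).2 h4)
      (C6.ne_zero Δ.hF hω hb h1) ((C6.herm_eq_zero Δ.hF hω hb _ _).2 h2), C6.herm_cv Δ.hF hω hb, C6.cj,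
      C6.cv_add Δ.hF hω, C6.cv_sm Δ.hF hω]
  smul k p hk hp := by
    obtain ⟨h1, h2⟩ := C6.iso_iff.1 hp
    rw [C6.cv_sm Δ.hF hω]
    exact Δ.pt_smul (C6.ne_zero Δ.hF hω hb h1) ((C6.herm_eq_zero Δ.hF hω hb _ _).2 h2)
      (fun h => hk ((K4.val_eq_zero hω).1 h))
  ne p q hp hq hn := by
    obtain ⟨h1, h2⟩ := C6.iso_iff.1 hp
    obtain ⟨h3, h4⟩ := C6.iso_iff.1 hq
    exact (Δ.pt_ne_iff (C6.ne_zero Δ.hF hω hb h1) ((C6.herm_eq_zero Δ.hF hω hb _ _).2 h2)
      (C6.ne_zero Δ.hF hω hb h3) ((C6.herm_eq_zero Δ.hF hω hb _ _).2 h4)).2 (C6.np_cv Δ.hF hω hb h3 hn)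
  surj y hy := by
    obtain ⟨w, hw0, hw, rfl⟩ := Δ.exists_pt hy
    obtain ⟨p, rfl⟩ := C6.exists_code Δ.hF hω hb w
    refine ⟨p, C6.iso_iff.2 ⟨?_, (C6.herm_eq_zero Δ.hF hω hb _ _).1 hw⟩, rfl⟩
    rintro rfl
    exact hw0 C6.cv_zero
  line p q hp hq hf hn := by
    obtain ⟨h1, h2⟩ := C6.iso_iff.1 hp
    obtain ⟨h3, h4⟩ := C6.iso_iff.1 hq
    have := h.line_fact hd Δ (C6.ne_zero Δ.hF hω hb h1) (C6.np_cv Δ.hF hω hb h3 hn)
      ((C6.herm_eq_zero Δ.hF hω hb _ _).2 h2) ((C6.herm_eq_zero Δ.hF hω hb _ _).2 h4)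
      ((C6.herm_eq_zero Δ.hF hω hb _ _).2 hf) hω
    rw [C6.cv_add Δ.hF hω, C6.cv_add Δ.hF hω, C6.cv_add Δ.hF hω, C6.cv_sm Δ.hF hω, C6.cv_sm Δ.hF hω]
    exact this

namespace Co

variable [Finite G] (h : H22 D) {d : G} (hd : d ∈ D) (C : Co D d) {x : G} (hx : x ∈ D) (hxd : ¬ Commute x d)

include h hx hxd in
/-- at most two points of a line commute with a given non-neighbour -/
theorem three {p q : C6} (hp : p.iso = true) (hq : q.iso = true) (hf : p.fm q = .z) (hn : p.np q = true)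
    (xp : Commute x (C.P p)) (xq : Commute x (C.P q)) {k : K4} (hk : k ≠ .z) : ¬ Commute x (C.P (p.add (q.sm k))) := by
  intro xr
  have L := C.line p q hp hq hf hn
  have hnd := L.1
  simp only [List.nodup_cons, List.mem_cons, List.not_mem_nil, or_false, not_or, List.nodup_nil, and_true,
    not_false_eq_true] at hnd
  obtain ⟨-, ⟨n12, n13, n14, n15⟩, ⟨n23, n24, n25⟩, -⟩ := hnd
  apply hxd
  have hs : q.sm .o = q := by
    obtain ⟨a, b, c, x, y, t⟩ := q
    have e : ∀ k : K4, K4.mul K4.o k = k := by decide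
    simp only [C6.sm, e]
  cases k
  · exact absurd rfl hk
  · rw [hs] at xr
    exact h.six_all L hx (a := C.P p) (b := C.P q) (by simp) (by simp) (by simp) n12 n13 n23 xp xq xr (by simp)
  · exact h.six_all L hx (a := C.P p) (b := C.P q) (by simp) (by simp) (by simp) n12 n14 n24 xp xq xr (by simp)
  · exact h.six_all L hx (a := C.P p) (b := C.P q) (by simp) (by simp) (by simp) n12 n15 n25 xp xq xr (by simp)

include h hx in
/-- an element commuting with two members commutes with the conjugate -/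
theorem clos {p q : C6} (hp : p.iso = true) (hq : q.iso = true)
    (xp : Commute x (C.P p)) (xq : Commute x (C.P q)) : Commute x (C.P (p.cj q)) := by
  rw [← C.conj p q hp hq]
  exact (xq.mul_right xp).mul_right xq.inv_right

end Co

end Cfsg.Agent.FW
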