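import Cfsg.Agent.Fi22.CoEx
import Cfsg.Agent.FW.Co

/-!
# Coordinates adapted to a hexad
-/

set_option autoImplicit false
set_option maxHeartbeats 1600000
set_option linter.unusedSectionVars false

namespace Cfsg.Agent.FW

open Cfsg.Agent.Fi22

open Finset Matrix Module Cfsg.Agent.Uni Cfsg.Agent.ThreeTransp

section vec

variable {F : Type} [Field F] [Fintype F] {n : ℕ}

theorem LI3.isTI (hF : Fintype.card F = 2 ^ 2) {u v w : Fin n → F} (h : LI3 u v w)
    (hu : hermForm n F 2 u u = 0) (hv : hermForm n F 2 v v = 0) (hw : hermForm n F 2 w w = 0)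
    (huv : hermForm n F 2 u v = 0) (huw : hermForm n F 2 u w = 0) (hvw : hermForm n F 2 v w = 0) :
    IsTI 2 ![u, v, w] := by
  have hvu : hermForm n F 2 v u = 0 := (hermForm_eq_zero_comm hF).1 huv
  have hwu : hermForm n F 2 w u = 0 := (hermForm_eq_zero_comm hF).1 huw
  have hwv : hermForm n F 2 w v = 0 := (hermForm_eq_zero_comm hF).1 hvw
  constructor
  · rw [Fintype.linearIndependent_iff]
    intro c hc
    rw [Fin.sum_univ_three] at hc
    obtain ⟨h1, h2, h3⟩ := h (c 0) (c 1) (c 2) (by simpa using hc)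
    intro i
    fin_cases i
    · exact h1
    · exact h2
    · exact h3
  · intro i j
    fin_cases i <;> fin_cases j <;> simp [hu, hv, hw, huv, huw, hvw, hvu, hwu, hwv]

/-- independence of three isotropic vectors and two more -/
theorem li5 {u0 u1 u2 wb wf : Fin n → F} (h : LI3 u0 u1 u2)
    (h00 : hermForm n F 2 u0 u0 = 0) (h10 : hermForm n F 2 u1 u0 = 0) (h20 : hermForm n F 2 u2 u0 = 0)
    (h02 : hermForm n F 2 u0 u2 = 0) (h12 : hermForm n F 2 u1 u2 = 0) (h22 : hermForm n F 2 u2 u2 = 0)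
    (hb0 : hermForm n F 2 wb u0 = 1) (hb2 : hermForm n F 2 wb u2 = 0)
    (hf0 : hermForm n F 2 wf u0 = 0) (hf2 : hermForm n F 2 wf u2 = 1) :
    LinearIndependent F ![u0, u1, u2, wb, wf] := by
  rw [Fintype.linearIndependent_iff]
  intro c hc
  rw [Fin.sum_univ_five] at hc
  have hc' : c 0 • u0 + c 1 • u1 + c 2 • u2 + c 3 • wb + c 4 • wf = 0 := hc
  have e3 : c 3 = 0 := by
    have := congrArg (fun x => hermForm n F 2 x u0) hc'
    simpa only [hermForm_add_left, hermForm_smul_left, hermForm_zero_left, h00, h10, h20, hb0, hf0, mul_zero, zero_add,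
      mul_one, add_zero] using this
  have e4 : c 4 = 0 := by
    have := congrArg (fun x => hermForm n F 2 x u2) hc'
    simpa only [hermForm_add_left, hermForm_smul_left, hermForm_zero_left, h02, h12, h22, hb2, hf2, mul_zero, zero_add,
      mul_one, add_zero] using this
  rw [e3, e4, zero_smul, zero_smul, add_zero, add_zero] at hc'
  obtain ⟨h1, h2, h3⟩ := h _ _ _ hc'
  intro i
  fin_cases i
  · exact h1
  · exact h2
  · exact h3
  · exact e3
  · exact e4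

theorem exists_HB_full (hF : Fintype.card F = 2 ^ 2) {u0 u1 u2 wb wf : Fin 6 → F} (h : LI3 u0 u1 u2)
    (h00 : hermForm 6 F 2 u0 u0 = 0) (h11 : hermForm 6 F 2 u1 u1 = 0) (h22 : hermForm 6 F 2 u2 u2 = 0)
    (h01 : hermForm 6 F 2 u0 u1 = 0) (h02 : hermForm 6 F 2 u0 u2 = 0) (h12 : hermForm 6 F 2 u1 u2 = 0)
    (hb0 : hermForm 6 F 2 wb u0 = 1) (hb1 : hermForm 6 F 2 wb u1 = 1) (hb2 : hermForm 6 F 2 wb u2 = 0)
    (hf0 : hermForm 6 F 2 wf u0 = 0) (hf1 : hermForm 6 F 2 wf u1 = 0) (hf2 : hermForm 6 F 2 wf u2 = 1)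
    (hbb : hermForm 6 F 2 wb wb = 0) (hff : hermForm 6 F 2 wf wf = 0) (hbf : hermForm 6 F 2 wb wf = 0) :
    ∃ U V : Fin 3 → Fin 6 → F, HB U V ∧ U 0 = u0 ∧ U 1 = u1 ∧ U 2 = u2 ∧ V 0 + V 1 = wb ∧ V 2 = wf := by
  have h10 : hermForm 6 F 2 u1 u0 = 0 := (hermForm_eq_zero_comm hF).1 h01
  have h20 : hermForm 6 F 2 u2 u0 = 0 := (hermForm_eq_zero_comm hF).1 h02
  have h21 : hermForm 6 F 2 u2 u1 = 0 := (hermForm_eq_zero_comm hF).1 h12
  have hfb : hermForm 6 F 2 wf wb = 0 := (hermForm_eq_zero_comm hF).1 hbf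
  have s : ∀ x y : Fin 6 → F, hermForm 6 F 2 x y = hermForm 6 F 2 y x ^ 2 := fun x y => herm_flip hF y x
  have h0b : hermForm 6 F 2 u0 wb = 1 := by rw [s, hb0, one_pow]
  have h1b : hermForm 6 F 2 u1 wb = 1 := by rw [s, hb1, one_pow]
  have h2b : hermForm 6 F 2 u2 wb = 0 := by rw [s, hb2, zero_pow two_ne_zero]
  have h0f : hermForm 6 F 2 u0 wf = 0 := by rw [s, hf0, zero_pow two_ne_zero]
  have h1f : hermForm 6 F 2 u1 wf = 0 := by rw [s, hf1, zero_pow two_ne_zero]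
  have h2f : hermForm 6 F 2 u2 wf = 1 := by rw [s, hf2, one_pow]
  obtain ⟨A, B, hAB⟩ := exists_HB hF
  have v := hAB.vu hF
  have hA3 : LI3 (A 0) (A 1) (A 2) := by
    intro x y z h0
    have hli := Fintype.linearIndependent_iff.1 hAB.li ![x, y, z] (by rw [Fin.sum_univ_three]; simpa using h0)
    exact ⟨hli 0, hli 1, hli 2⟩
  have c1 : LinearIndependent F ![A 0, A 1, A 2, B 0 + B 1, B 2] := by
    apply li5 hA3 <;>
      simp only [hAB.uu, hermForm_add_left, v, Fin.isValue, Fin.reduceEq, if_true, if_false, add_zero]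
  have c2 : LinearIndependent F ![u0, u1, u2, wb, wf] := li5 h h00 h10 h20 h02 h12 h22 hb0 hb2 hf0 hf2
  have two : (1 : F) + 1 = 0 := add_self' hF 1
  obtain ⟨g, hg⟩ := exists_GU_of_family hF c1 c2 (by
    intro i j
    fin_cases i <;> fin_cases j <;>
      simp [hAB.uu, hAB.vv, hAB.uv, v, hermForm_add_left, hermForm_add_right hF, h00, h11, h22, h01, h02, h12, h10, h20, h21,
        hb0, hb1, hb2, hf0, hf1, hf2, hbb, hff, hbf, hfb, h0b, h1b, h2b, h0f, h1f, h2f])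
  refine ⟨fun i => gact g (A i), fun i => gact g (B i), ⟨fun i j => ?_, fun i j => ?_, fun i j => ?_⟩, hg 0, hg 1, hg 2,
    ?_, hg 4⟩
  · rw [gact_form, hAB.uu]
  · rw [gact_form, hAB.vv]
  · rw [gact_form, hAB.uv]
  · have h3 : gact g (B 0 + B 1) = wb := hg 3
    show gact g (B 0) + gact g (B 1) = wb
    rw [← h3]
    simp only [gact, Matrix.mulVec_add]

end vec

variable {G : Type*} [Group G] {D : Set G}

namespace H22

variable [Finite G] (h : H22 D)

include h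

/-- a hexad in the space of `d` in normal form -/
theorem exists_hex_vec {d : G} (hd : d ∈ D) {F : Type} [Field F] [Fintype F] (Δ : Dict D d F) {ω : F} (hω : ω ^ 2 = ω + 1)
    {a c e g y z : G} (hl : IsFact D 6 1 [a, c, e, g, y, z]) (hp : ∀ s ∈ [a, c, e, g, y, z], s ∈ perp D d) :
    ∃ u0 u1 u2 : Fin 6 → F, LI3 u0 u1 u2 ∧ hermForm 6 F 2 u0 u0 = 0 ∧ hermForm 6 F 2 u1 u1 = 0 ∧
      hermForm 6 F 2 u2 u2 = 0 ∧ hermForm 6 F 2 u0 u1 = 0 ∧ hermForm 6 F 2 u0 u2 = 0 ∧ hermForm 6 F 2 u1 u2 = 0 ∧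
      Δ.pt u0 = a ∧ Δ.pt u1 = c ∧ Δ.pt u2 = e ∧ Δ.pt (u0 + u1 + u2) = g ∧
      (Δ.pt (u0 + ω • u1 + ω ^ 2 • u2) = y ∧ Δ.pt (u0 + ω ^ 2 • u1 + ω • u2) = z ∨
        Δ.pt (u0 + ω • u1 + ω ^ 2 • u2) = z ∧ Δ.pt (u0 + ω ^ 2 • u1 + ω • u2) = y) := by
  have hF := Δ.hF
  have hω0 := omega_ne_zero hω
  have hω1 := omega_ne_one hF hω
  have hω2 : ω ^ 2 ≠ 0 := pow_ne_zero _ hω0
  have hω3 : ω ^ 2 ≠ 1 := by
    intro h1; rw [h1] at hω
    exact hω0 (by linear_combination -hω)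
  have hω4 : ω ≠ ω ^ 2 := by
    intro h1
    rcases sq_eq_self_iff'.1 h1.symm with h2 | h2
    · exact hω0 h2
    · exact hω1 h2
  have hpa := hp a (by simp)
  have hpc := hp c (by simp)
  have hpe := hp e (by simp)
  have hpg := hp g (by simp)
  have hnd := hl.1
  simp only [List.nodup_cons, List.mem_cons, List.not_mem_nil, or_false, not_or, List.nodup_nil, and_true,
    not_false_eq_true] at hnd
  obtain ⟨⟨nac, nae, nag, nay, naz⟩, ⟨nce, ncg, ncy, ncz⟩, ⟨neg, ney, nez⟩, ⟨ngy, ngz⟩, nyz⟩ := hnd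
  have hdl : d ∉ [a, c, e, g, y, z] := fun h1 => (hp d h1).2.1 rfl
  obtain ⟨v0, hv00, hv0, ea⟩ := Δ.exists_pt hpa
  obtain ⟨v1, hv10, hv1, ec⟩ := Δ.exists_pt hpc
  obtain ⟨v2, hv20, hv2, ee⟩ := Δ.exists_pt hpe
  obtain ⟨v3, hv30, hv3, eg⟩ := Δ.exists_pt hpg
  have cc := hl.2.2.2.1
  have h01 := (Δ.commute_pt hv00 hv0 hv10 hv1).1 (by rw [← ea, ← ec]; exact cc a (by simp) c (by simp))
  have h02 := (Δ.commute_pt hv00 hv0 hv20 hv2).1 (by rw [← ea, ← ee]; exact cc a (by simp) e (by simp))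
  have h12 := (Δ.commute_pt hv10 hv1 hv20 hv2).1 (by rw [← ec, ← ee]; exact cc c (by simp) e (by simp))
  have h30 := (Δ.commute_pt hv30 hv3 hv00 hv0).1 (by rw [← ea, ← eg]; exact cc g (by simp) a (by simp))
  have h31 := (Δ.commute_pt hv30 hv3 hv10 hv1).1 (by rw [← ec, ← eg]; exact cc g (by simp) c (by simp))
  have h32 := (Δ.commute_pt hv30 hv3 hv20 hv2).1 (by rw [← ee, ← eg]; exact cc g (by simp) e (by simp))
  have np01 := (Δ.pt_ne_iff hv00 hv0 hv10 hv1).1 (by rw [← ea, ← ec]; exact nac)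
  have np02 := (Δ.pt_ne_iff hv00 hv0 hv20 hv2).1 (by rw [← ea, ← ee]; exact nae)
  have np12 := (Δ.pt_ne_iff hv10 hv1 hv20 hv2).1 (by rw [← ec, ← ee]; exact nce)
  -- no third member of the hexad on the line of two others
  have noline : ∀ {s t r : G} {p q : Fin 6 → F}, s ∈ [a, c, e, g, y, z] → t ∈ [a, c, e, g, y, z] →
      r ∈ [a, c, e, g, y, z] → s ≠ t → s ≠ r → t ≠ r → p ≠ 0 → q ≠ 0 → hermForm 6 F 2 p p = 0 → hermForm 6 F 2 q q = 0 →
      hermForm 6 F 2 p q = 0 → NP p q → s = Δ.pt p → t = Δ.pt q →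
      ∀ α : F, α ≠ 0 → r ≠ Δ.pt (p + α • q) := by
    intro s t r p q hs ht hr nst nsr ntr hp0 hq0 hpp hqq hpq hnp es et α hα er
    have L := h.line_fact hd Δ hp0 hnp hpp hqq hpq hω
    have hr' : r ∈ [d, Δ.pt p, Δ.pt q, Δ.pt (p + q), Δ.pt (p + ω • q), Δ.pt (p + ω ^ 2 • q)] := by
      rw [er]
      rcases F_cases hF hω α with e1 | e1 | e1 | e1
      · exact absurd e1 hα
      · rw [e1, one_smul]; simp
      · rw [e1]; simp
      · rw [e1]; simp
    exact hdl (h.fact6_ext L hl (a := s) (b := t) (c := r) (by rw [es]; simp) (by rw [et]; simp) hr' hs ht hr nst nsr ntr d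
      (by simp))
  have hli : LI3 v0 v1 v2 := by
    intro x y' z' h0
    by_cases hz : z' = 0
    · rw [hz, zero_smul, add_zero] at h0
      obtain ⟨h1, h2⟩ := np_lin hv00 np01 h0
      exact ⟨h1, h2, hz⟩
    · exfalso
      have e1 : v2 = (-z'⁻¹ * x) • v0 + (-z'⁻¹ * y') • v1 := by
        have h1 : z' • v2 = -(x • v0 + y' • v1) := by
          rw [eq_neg_iff_add_eq_zero, add_comm]; exact h0
        have h2 : v2 = z'⁻¹ • (z' • v2) := by rw [smul_smul, inv_mul_cancel₀ hz, one_smul]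
        rw [h2, h1, smul_neg, smul_add, smul_smul, smul_smul, neg_add, ← neg_smul, ← neg_smul, neg_mul, neg_mul]
      by_cases hx : -z'⁻¹ * x = 0
      · rw [hx, zero_smul, zero_add] at e1
        exact np12 _ e1
      · by_cases hy : -z'⁻¹ * y' = 0
        · rw [hy, zero_smul, add_zero] at e1
          exact np02 _ e1
        · apply noline (s := a) (t := c) (r := e) (p := v0) (q := v1) (by simp) (by simp) (by simp) nac nae nce hv00 hv10
            hv0 hv1 h01 np01 ea ec ((-z'⁻¹ * x)⁻¹ * (-z'⁻¹ * y')) (mul_ne_zero (inv_ne_zero hx) hy)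
          rw [ee, Δ.pt_eq_iff hv20 hv2 (line_ne hv00 np01 _) (line_iso hF hv0 hv1 h01 _ _)]
          refine ⟨(-z'⁻¹ * x)⁻¹, inv_ne_zero hx, ?_⟩
          rw [e1, smul_add, smul_smul, smul_smul, inv_mul_cancel₀ hx, one_smul]
  -- the fourth vector
  have hTI := hli.isTI hF hv0 hv1 hv2 h01 h02 h12
  obtain ⟨U, V, hUV, hU⟩ := exists_HB_of_TI hF (k := 3) le_rfl hTI
  have U0 : U 0 = v0 := hU 0
  have U1 : U 1 = v1 := hU 1
  have U2 : U 2 = v2 := hU 2
  obtain ⟨α, β, γ, hv⟩ : ∃ α β γ : F, v3 = α • v0 + β • v1 + γ • v2 := by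
    refine ⟨hermForm 6 F 2 v3 (V 0), hermForm 6 F 2 v3 (V 1), hermForm 6 F 2 v3 (V 2), ?_⟩
    rw [← sub_eq_zero]
    apply hUV.ext_zero hF
    · intro i
      have k0 : hermForm 6 F 2 v3 (U i) = 0 := by
        fin_cases i
        · show hermForm 6 F 2 v3 (U 0) = 0; rw [U0]; exact h30
        · show hermForm 6 F 2 v3 (U 1) = 0; rw [U1]; exact h31
        · show hermForm 6 F 2 v3 (U 2) = 0; rw [U2]; exact h32
      rw [← U0, ← U1, ← U2]
      simp only [hermForm_sub_left, hermForm_add_left, hermForm_smul_left, hUV.uu, mul_zero, add_zero, sub_zero, k0]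
    · intro i
      rw [← U0, ← U1, ← U2]
      simp only [hermForm_sub_left, hermForm_add_left, hermForm_smul_left, hUV.uv]
      fin_cases i <;> simp
  have hα : α ≠ 0 := by
    rintro rfl
    rw [zero_smul, zero_add] at hv
    by_cases hb : β = 0
    · rw [hb, zero_smul, zero_add] at hv
      have := (Δ.pt_ne_iff hv20 hv2 hv30 hv3).1 (by rw [← ee, ← eg]; exact neg)
      exact this _ hv
    · by_cases hc : γ = 0
      · rw [hc, zero_smul, add_zero] at hv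
        have := (Δ.pt_ne_iff hv10 hv1 hv30 hv3).1 (by rw [← ec, ← eg]; exact ncg)
        exact this _ hv
      · apply noline (s := c) (t := e) (r := g) (p := v1) (q := v2) (by simp) (by simp) (by simp) nce ncg neg hv10 hv20
          hv1 hv2 h12 np12 ec ee (β⁻¹ * γ) (mul_ne_zero (inv_ne_zero hb) hc)
        rw [eg, Δ.pt_eq_iff hv30 hv3 (line_ne hv10 np12 _) (line_iso hF hv1 hv2 h12 _ _)]
        refine ⟨β⁻¹, inv_ne_zero hb, ?_⟩
        rw [hv, smul_add, smul_smul, smul_smul, inv_mul_cancel₀ hb, one_smul]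
  have hβ : β ≠ 0 := by
    rintro rfl
    rw [zero_smul, add_zero] at hv
    by_cases hc : γ = 0
    · rw [hc, zero_smul, add_zero] at hv
      have := (Δ.pt_ne_iff hv00 hv0 hv30 hv3).1 (by rw [← ea, ← eg]; exact nag)
      exact this _ hv
    · apply noline (s := a) (t := e) (r := g) (p := v0) (q := v2) (by simp) (by simp) (by simp) nae nag neg hv00 hv20
        hv0 hv2 h02 np02 ea ee (α⁻¹ * γ) (mul_ne_zero (inv_ne_zero hα) hc)
      rw [eg, Δ.pt_eq_iff hv30 hv3 (line_ne hv00 np02 _) (line_iso hF hv0 hv2 h02 _ _)]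
      refine ⟨α⁻¹, inv_ne_zero hα, ?_⟩
      rw [hv, smul_add, smul_smul, smul_smul, inv_mul_cancel₀ hα, one_smul]
  have hγ : γ ≠ 0 := by
    rintro rfl
    rw [zero_smul, add_zero] at hv
    apply noline (s := a) (t := c) (r := g) (p := v0) (q := v1) (by simp) (by simp) (by simp) nac nag ncg hv00 hv10
      hv0 hv1 h01 np01 ea ec (α⁻¹ * β) (mul_ne_zero (inv_ne_zero hα) hβ)
    rw [eg, Δ.pt_eq_iff hv30 hv3 (line_ne hv00 np01 _) (line_iso hF hv0 hv1 h01 _ _)]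
    refine ⟨α⁻¹, inv_ne_zero hα, ?_⟩
    rw [hv, smul_add, smul_smul, smul_smul, inv_mul_cancel₀ hα, one_smul]
  set u0 := α • v0 with hu0
  set u1 := β • v1 with hu1
  set u2 := γ • v2 with hu2
  have hli' : LI3 u0 u1 u2 := by
    intro x y' z' h0
    rw [hu0, hu1, hu2, smul_smul, smul_smul, smul_smul] at h0
    obtain ⟨k1, k2, k3⟩ := hli _ _ _ h0
    exact ⟨(mul_eq_zero.1 k1).resolve_right hα, (mul_eq_zero.1 k2).resolve_right hβ, (mul_eq_zero.1 k3).resolve_right hγ⟩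
  have i0 : hermForm 6 F 2 u0 u0 = 0 := by rw [hu0, hermForm_smul_left, hermForm_smul_right, hv0, mul_zero, mul_zero]
  have i1 : hermForm 6 F 2 u1 u1 = 0 := by rw [hu1, hermForm_smul_left, hermForm_smul_right, hv1, mul_zero, mul_zero]
  have i2 : hermForm 6 F 2 u2 u2 = 0 := by rw [hu2, hermForm_smul_left, hermForm_smul_right, hv2, mul_zero, mul_zero]
  have i01 : hermForm 6 F 2 u0 u1 = 0 := by
    rw [hu0, hu1, hermForm_smul_left, hermForm_smul_right, h01, mul_zero, mul_zero]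
  have i02 : hermForm 6 F 2 u0 u2 = 0 := by
    rw [hu0, hu2, hermForm_smul_left, hermForm_smul_right, h02, mul_zero, mul_zero]
  have i12 : hermForm 6 F 2 u1 u2 = 0 := by
    rw [hu1, hu2, hermForm_smul_left, hermForm_smul_right, h12, mul_zero, mul_zero]
  have p0 : Δ.pt u0 = a := by rw [ea]; exact Δ.pt_smul hv00 hv0 hα
  have p1 : Δ.pt u1 = c := by rw [ec]; exact Δ.pt_smul hv10 hv1 hβ
  have p2 : Δ.pt u2 = e := by rw [ee]; exact Δ.pt_smul hv20 hv2 hγ
  have p3 : Δ.pt (u0 + u1 + u2) = g := by rw [eg, hv]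
  refine ⟨u0, u1, u2, hli', i0, i1, i2, i01, i02, i12, p0, p1, p2, p3, ?_⟩
  -- the remaining two
  set p5 := u0 + ω • u1 + ω ^ 2 • u2 with hp5
  set p6 := u0 + ω ^ 2 • u1 + ω • u2 with hp6
  have e0 : u0 = (1 : F) • u0 + (0 : F) • u1 + (0 : F) • u2 := by simp
  have e1 : u1 = (0 : F) • u0 + (1 : F) • u1 + (0 : F) • u2 := by simp
  have e2 : u2 = (0 : F) • u0 + (0 : F) • u1 + (1 : F) • u2 := by simp
  have e3 : u0 + u1 + u2 = (1 : F) • u0 + (1 : F) • u1 + (1 : F) • u2 := by simp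
  have e5 : p5 = (1 : F) • u0 + ω • u1 + ω ^ 2 • u2 := by simp [hp5]
  have e6 : p6 = (1 : F) • u0 + ω ^ 2 • u1 + ω • u2 := by simp [hp6]
  have hc : ∀ {x y z x' y' z' : F} {p q : Fin 6 → F}, p = x • u0 + y • u1 + z • u2 → q = x' • u0 + y' • u1 + z' • u2 →
    hermForm 6 F 2 p q = 0 := fun hp hq => herm_comb hF i0 i1 i2 i01 i02 i12 hp hq
  have n0 := hli'.ne (by simp) e0
  have n1 := hli'.ne (by simp) e1
  have n2 := hli'.ne (by simp) e2
  have n3 := hli'.ne (by simp) e3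
  have n5 := hli'.ne (by simp) e5
  have n6 := hli'.ne (by simp) e6
  have np56 : Δ.pt p5 ≠ Δ.pt p6 := (Δ.pt_ne_iff n5 (hc e5 e5) n6 (hc e6 e6)).2 (hli'.np (by
      intro c h1 h2 _
      rw [mul_one] at h1
      rw [← h1, one_mul] at h2
      exact hω4 h2.symm) e5 e6)
  -- central product of the hyperoval
  have hl0 : ∀ z ∈ [u0, u1, u2, u0 + u1 + u2, p5, p6], z ≠ 0 ∧ hermForm 6 F 2 z z = 0 := by
    simp only [List.mem_cons, List.not_mem_nil, or_false, forall_eq_or_imp, forall_eq]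
    exact ⟨⟨n0, i0⟩, ⟨n1, i1⟩, ⟨n2, i2⟩, ⟨n3, hc e3 e3⟩, ⟨n5, hc e5 e5⟩, ⟨n6, hc e6 e6⟩⟩
  have hl1 : ∀ z ∈ [u0, u1, u2, u0 + u1 + u2, p5, p6], ∃ x y z' : F, z = x • u0 + y • u1 + z' • u2 := by
    simp only [List.mem_cons, List.not_mem_nil, or_false, forall_eq_or_imp, forall_eq]
    exact ⟨⟨_, _, _, e0⟩, ⟨_, _, _, e1⟩, ⟨_, _, _, e2⟩, ⟨_, _, _, e3⟩, ⟨_, _, _, e5⟩, ⟨_, _, _, e6⟩⟩
  have hl2 : ∀ z ∈ [u0, u1, u2, u0 + u1 + u2, p5, p6], ∀ z' ∈ [u0, u1, u2, u0 + u1 + u2, p5, p6],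
      hermForm 6 F 2 z z' = 0 := by
    intro z hz z' hz'
    obtain ⟨x, y, t, h1⟩ := hl1 z hz
    obtain ⟨x', y', t', h1'⟩ := hl1 z' hz'
    exact hc h1 h1'
  have hrk : ∀ x, rk [u0, u1, u2, u0 + u1 + u2, p5, p6] x = 0 := by
    intro x
    have := rk_hyperoval hF hω (β := 1) one_ne_zero u0 u1 u2 x
    simpa only [one_smul, one_mul] using this
  have hcen := (Δ.central_iff hl0 hl2).2 hrk
  have hcen' : ∀ y' ∈ perp D d, Commute y' (a * (c * (e * (g * (Δ.pt p5 * Δ.pt p6))))) := by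
    intro y' hy'
    have := hcen y' hy'
    simpa only [List.map_cons, List.map_nil, List.prod_cons, List.prod_nil, mul_one, p0, p1, p2, p3] using this
  have hprod : a * (c * (e * (g * (y * z)))) = 1 := by simpa using hl.2.2.2.2
  have hpy := hp y (by simp)
  have hpz := hp z (by simp)
  have hp5' := Δ.pt_mem n5 (hc e5 e5)
  have hp6' := Δ.pt_mem n6 (hc e6 e6)
  -- commuting among everything in the plane
  have hpl : ∀ s ∈ [a, c, e, g, y, z], ∃ w : Fin 6 → F, s = Δ.pt w ∧ w ≠ 0 ∧ hermForm 6 F 2 w w = 0 ∧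
      hermForm 6 F 2 w u0 = 0 ∧ hermForm 6 F 2 w u1 = 0 ∧ hermForm 6 F 2 w u2 = 0 := by
    intro s hs
    obtain ⟨w, hw0, hw, rfl⟩ := Δ.exists_pt (hp s hs)
    refine ⟨w, rfl, hw0, hw, ?_, ?_, ?_⟩
    · rw [← Δ.commute_pt hw0 hw n0 i0, p0]; exact cc _ hs a (by simp)
    · rw [← Δ.commute_pt hw0 hw n1 i1, p1]; exact cc _ hs c (by simp)
    · rw [← Δ.commute_pt hw0 hw n2 i2, p2]; exact cc _ hs e (by simp)
  have hcom : ∀ s ∈ [a, c, e, g, y, z], ∀ q, q ≠ 0 → hermForm 6 F 2 q q = 0 → (∃ x y z' : F, q = x • u0 + y • u1 + z' • u2) →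
      Commute s (Δ.pt q) := by
    intro s hs q hq0 hq hq'
    obtain ⟨w, rfl, hw0, hw, w0, w1, w2⟩ := hpl s hs
    obtain ⟨x, y', z', rfl⟩ := hq'
    rw [Δ.commute_pt hw0 hw hq0 hq, hermForm_add_right hF, hermForm_add_right hF, hermForm_smul_right x w u0,
      hermForm_smul_right y' w u1, hermForm_smul_right z' w u2, w0, w1, w2]
    simp
  have h4 : ∀ y' ∈ perp D d, Commute y' (Δ.pt p5 * Δ.pt p6 * y * z) := by
    intro y' hy'
    have k1 := hcen' y' hy'
    have hyy := mul_self h.cls.1 hpy.1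
    have hzz := mul_self h.cls.1 hpz.1
    have cyz := cc y (by simp) z (by simp)
    have k2 : a * (c * (e * g)) = y * z := by
      have : a * (c * (e * g)) * (y * z) = 1 := by simpa only [mul_assoc] using hprod
      rw [eq_inv_of_mul_eq_one_left this]
      apply inv_eq_of_mul_eq_one_left
      calc y * z * (y * z) = y * (z * y) * z := by group
        _ = (y * y) * (z * z) := by rw [← cyz.eq]; group
        _ = 1 := by rw [hyy, hzz, one_mul]
    have k3 : a * (c * (e * (g * (Δ.pt p5 * Δ.pt p6)))) = y * z * (Δ.pt p5 * Δ.pt p6) := by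
      rw [← k2]; simp only [mul_assoc]
    rw [k3] at k1
    have k4 : Commute (y * z) (Δ.pt p5 * Δ.pt p6) := by
      have m1 := hcom y (by simp) p5 n5 (hc e5 e5) ⟨_, _, _, e5⟩
      have m2 := hcom y (by simp) p6 n6 (hc e6 e6) ⟨_, _, _, e6⟩
      have m3 := hcom z (by simp) p5 n5 (hc e5 e5) ⟨_, _, _, e5⟩
      have m4 := hcom z (by simp) p6 n6 (hc e6 e6) ⟨_, _, _, e6⟩
      exact (m1.mul_right m2).mul_left (m3.mul_right m4)
    rw [k4.eq] at k1
    simpa only [mul_assoc] using k1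
  have hpw : ∀ x ∈ [Δ.pt p5, Δ.pt p6, y, z], ∀ y' ∈ [Δ.pt p5, Δ.pt p6, y, z], Commute x y' := by
    have m1 := hcom y (by simp) p5 n5 (hc e5 e5) ⟨_, _, _, e5⟩
    have m2 := hcom y (by simp) p6 n6 (hc e6 e6) ⟨_, _, _, e6⟩
    have m3 := hcom z (by simp) p5 n5 (hc e5 e5) ⟨_, _, _, e5⟩
    have m4 := hcom z (by simp) p6 n6 (hc e6 e6) ⟨_, _, _, e6⟩
    have m5 := cc y (by simp) z (by simp)
    have m6 := (Δ.commute_pt n5 (hc e5 e5) n6 (hc e6 e6)).2 (hc e5 e6)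
    simp only [List.mem_cons, List.not_mem_nil, or_false]
    rintro x (rfl | rfl | rfl | rfl) y' (rfl | rfl | rfl | rfl)
    · exact Commute.refl _
    · exact m6
    · exact m1.symm
    · exact m3.symm
    · exact m6.symm
    · exact Commute.refl _
    · exact m2.symm
    · exact m4.symm
    · exact m1
    · exact m2
    · exact Commute.refl _
    · exact m5
    · exact m3
    · exact m4
    · exact m5.symm
    · exact Commute.refl _
  have hpw' : ∀ x ∈ [Δ.pt p6, Δ.pt p5, y, z], ∀ y' ∈ [Δ.pt p6, Δ.pt p5, y, z], Commute x y' := by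
    intro x hx y' hy'
    apply hpw
    · simp only [List.mem_cons, List.not_mem_nil, or_false] at hx ⊢; tauto
    · simp only [List.mem_cons, List.not_mem_nil, or_false] at hy' ⊢; tauto
  have c56 := (Δ.commute_pt n5 (hc e5 e5) n6 (hc e6 e6)).2 (hc e5 e6)
  have m5 : Δ.pt p5 = y ∨ Δ.pt p5 = z := by
    by_contra hcon
    rw [not_or] at hcon
    refine h.no_four_pt hd hp6' hp5' hpy hpz np56.symm (Ne.symm hcon.1) (Ne.symm hcon.2) hpw' ?_
    intro y' hy'
    rw [← c56.eq]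
    exact h4 y' hy'
  have m6 : Δ.pt p6 = y ∨ Δ.pt p6 = z := by
    by_contra hcon
    rw [not_or] at hcon
    exact h.no_four_pt hd hp5' hp6' hpy hpz np56 (Ne.symm hcon.1) (Ne.symm hcon.2) hpw h4
  rcases m5 with m5 | m5 <;> rcases m6 with m6 | m6
  · exact absurd (m5.trans m6.symm) np56
  · exact Or.inl ⟨m5, m6⟩
  · exact Or.inr ⟨m5, m6⟩
  · exact absurd (m5.trans m6.symm) np56

end H22

end Cfsg.Agent.FW
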