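import Cfsg.Agent.Fi22.CoGood
import Cfsg.Agent.FW.CoEx
import Cfsg.Agent.FW.Tri

/-!
# Further properties of the coordinates
-/

set_option autoImplicit false
set_option maxHeartbeats 1600000
set_option linter.unusedSectionVars false

namespace Cfsg.Agent.FW

open Cfsg.Agent.Fi22

open Finset Matrix Module Cfsg.Agent.Uni Cfsg.Agent.ThreeTransp

variable {G : Type*} [Group G] {D : Set G}

/-- further properties of coordinates: hexads in a plane, and linearity of the action of the centraliser -/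
structure Co.Good {d : G} (C : Co D d) : Prop where
  hyper : ∀ (p q r : C6) (y z : G), p.iso = true → q.iso = true → r.iso = true → ((p.add q).add r).iso = true →
    IsFact D 6 1 [C.P p, C.P q, C.P r, C.P ((p.add q).add r), y, z] →
    (∀ s ∈ [C.P p, C.P q, C.P r, C.P ((p.add q).add r), y, z], s ∈ perp D d) →
    (C.P ((p.add (q.sm .w)).add (r.sm .v)) = y ∧ C.P ((p.add (q.sm .v)).add (r.sm .w)) = z ∨
      C.P ((p.add (q.sm .w)).add (r.sm .v)) = z ∧ C.P ((p.add (q.sm .v)).add (r.sm .w)) = y)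
  lin : ∀ ζ : G, Commute ζ d → ∃ s : C6 → K4, (∀ p, p.iso = true → Commute ζ (C.P p) → s p ≠ .z) ∧
    (∀ p q, p.iso = true → q.iso = true → Commute ζ (C.P p) → Commute ζ (C.P q) → p.fm q ≠ .z → s p = s q) ∧
    (∀ S : List C6, (∀ p ∈ S, p.iso = true ∧ Commute ζ (C.P p)) → (∀ p ∈ S, ∀ q ∈ S, s p = s q) → S ≠ [] →
      (∀ x : C6, (∀ p ∈ S, x.fm p = .z) → x = C6.zero) → ζ = 1 ∨ ζ = d)

theorem Dict.co_good [Finite G] (h : H22 D) {d : G} (hd : d ∈ D) {F : Type} [Field F] [Fintype F] (Δ : Dict D d F)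
    {U V : Fin 3 → Fin 6 → F} (hb : HB U V) {ω : F} (hω : ω ^ 2 = ω + 1) : (Δ.co h hd hb hω).Good := by
  have hF := Δ.hF
  set C := Δ.co h hd hb hω with hC
  have hP : ∀ p, C.P p = Δ.pt (C6.cv U V ω p) := fun p => rfl
  have hn : ∀ {p : C6}, p.iso = true → C6.cv U V ω p ≠ 0 := fun hp => C6.ne_zero hF hω hb (C6.iso_iff.1 hp).1
  have hi : ∀ {p : C6}, p.iso = true → hermForm 6 F 2 (C6.cv U V ω p) (C6.cv U V ω p) = 0 := fun hp =>
    (C6.herm_eq_zero hF hω hb _ _).2 (C6.iso_iff.1 hp).2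
  constructor
  · intro p q r y z ip iq ir ipqr hl hs
    obtain ⟨u0, u1, u2, hli, i0, i1, i2, i01, i02, i12, p0, p1, p2, p3, p45⟩ := h.exists_hex_vec hd Δ hω hl hs
    have e0 : u0 = (1 : F) • u0 + (0 : F) • u1 + (0 : F) • u2 := by simp
    have e1 : u1 = (0 : F) • u0 + (1 : F) • u1 + (0 : F) • u2 := by simp
    have e2 : u2 = (0 : F) • u0 + (0 : F) • u1 + (1 : F) • u2 := by simp
    have e3 : u0 + u1 + u2 = (1 : F) • u0 + (1 : F) • u1 + (1 : F) • u2 := by simp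
    have e4 : u0 + ω • u1 + ω ^ 2 • u2 = (1 : F) • u0 + ω • u1 + ω ^ 2 • u2 := by simp
    have e5 : u0 + ω ^ 2 • u1 + ω • u2 = (1 : F) • u0 + ω ^ 2 • u1 + ω • u2 := by simp
    have n0 := hli.ne (by simp) e0
    have n1 := hli.ne (by simp) e1
    have n2 := hli.ne (by simp) e2
    have n3 := hli.ne (by simp) e3
    have n4 := hli.ne (by simp) e4
    have n5 := hli.ne (by simp) e5
    have i3 : hermForm 6 F 2 (u0 + u1 + u2) (u0 + u1 + u2) = 0 := herm_comb hF i0 i1 i2 i01 i02 i12 e3 e3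
    have i4 : hermForm 6 F 2 (u0 + ω • u1 + ω ^ 2 • u2) (u0 + ω • u1 + ω ^ 2 • u2) = 0 :=
      herm_comb hF i0 i1 i2 i01 i02 i12 e4 e4
    have i5 : hermForm 6 F 2 (u0 + ω ^ 2 • u1 + ω • u2) (u0 + ω ^ 2 • u1 + ω • u2) = 0 :=
      herm_comb hF i0 i1 i2 i01 i02 i12 e5 e5
    obtain ⟨c0, k0, f0⟩ := (Δ.pt_eq_iff n0 i0 (hn ip) (hi ip)).1 p0
    obtain ⟨c1, k1, f1⟩ := (Δ.pt_eq_iff n1 i1 (hn iq) (hi iq)).1 p1
    obtain ⟨c2, k2, f2⟩ := (Δ.pt_eq_iff n2 i2 (hn ir) (hi ir)).1 p2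
    obtain ⟨c3, k3, f3⟩ := (Δ.pt_eq_iff n3 i3 (hn ipqr) (hi ipqr)).1 p3
    rw [C6.cv_add hF hω, C6.cv_add hF hω, f0, f1, f2] at f3
    have hz : (c0 - c3) • u0 + (c1 - c3) • u1 + (c2 - c3) • u2 = 0 := by
      have := sub_eq_zero.2 f3
      rw [← this]
      module
    obtain ⟨z0, z1, z2⟩ := hli _ _ _ hz
    rw [sub_eq_zero] at z0 z1 z2
    subst z0 z1
    rw [z2] at f2
    have g4 : C.P ((p.add (q.sm .w)).add (r.sm .v)) = Δ.pt (u0 + ω • u1 + ω ^ 2 • u2) := by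
      rw [hP, C6.cv_add hF hω, C6.cv_add hF hω, C6.cv_sm hF hω, C6.cv_sm hF hω, f0, f1, f2]
      have : c1 • u0 + K4.val ω .w • c1 • u1 + K4.val ω .v • c1 • u2 = c1 • (u0 + ω • u1 + ω ^ 2 • u2) := by
        simp only [K4.val]
        module
      rw [this]
      exact Δ.pt_smul n4 i4 k0
    have g5 : C.P ((p.add (q.sm .v)).add (r.sm .w)) = Δ.pt (u0 + ω ^ 2 • u1 + ω • u2) := by
      rw [hP, C6.cv_add hF hω, C6.cv_add hF hω, C6.cv_sm hF hω, C6.cv_sm hF hω, f0, f1, f2]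
      have : c1 • u0 + K4.val ω .v • c1 • u1 + K4.val ω .w • c1 • u2 = c1 • (u0 + ω ^ 2 • u1 + ω • u2) := by
        simp only [K4.val]
        module
      rw [this]
      exact Δ.pt_smul n5 i5 k0
    rw [g4, g5]
    exact p45
  · intro ζ hζ
    have hζc : ζ ∈ Subgroup.closure (perp D d) := by
      rw [← h.centralizer_eq hd, Subgroup.mem_centralizer_singleton_iff]
      exact hζ
    obtain ⟨t, ht⟩ : ∃ t : SU 6 F 2, Δ.ψ ⟨ζ, hζc⟩ = pr t := by
      obtain ⟨t, ht⟩ := QuotientGroup.mk_surjective (Δ.ψ ⟨ζ, hζc⟩)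
      exact ⟨t, ht.symm⟩
    have key : ∀ p : C6, p.iso = true → Commute ζ (C.P p) → ∃ c : F, c ≠ 0 ∧ act t (C6.cv U V ω p) = c • C6.cv U V ω p := by
      intro p ip hc
      have hm := Δ.pt_mem (hn ip) (hi ip)
      have h1 := (Δ.conj_of_act h.hconj hζc ht hm).2
      obtain ⟨c', hc', h2⟩ := Δ.pt_vec (hn ip) (hi ip)
      rw [h2, act_smul, Δ.pt_smul (act_ne_zero (hn ip)) (by rw [act_form]; exact hi ip) hc'] at h1
      have h3 : ζ * Δ.pt (C6.cv U V ω p) * ζ⁻¹ = Δ.pt (C6.cv U V ω p) := by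
        rw [mul_inv_eq_iff_eq_mul]; exact hc
      rw [h3] at h1
      exact (Δ.pt_eq_iff (hn ip) (hi ip) (act_ne_zero (hn ip)) (by rw [act_form]; exact hi ip)).1 h1
    have key2 : ∀ p : C6, ∃ k : K4, (p.iso = true → Commute ζ (C.P p) →
        k ≠ .z ∧ act t (C6.cv U V ω p) = K4.val ω k • C6.cv U V ω p) := by
      intro p
      by_cases hp : p.iso = true ∧ Commute ζ (C.P p)
      · obtain ⟨c, hc, h1⟩ := key p hp.1 hp.2
        obtain ⟨k, rfl⟩ := K4.exists_val hF hω c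
        refine ⟨k, fun _ _ => ⟨fun h2 => hc ((K4.val_eq_zero hω).2 h2), h1⟩⟩
      · exact ⟨.z, fun h1 h2 => absurd ⟨h1, h2⟩ hp⟩
    choose s hs using key2
    refine ⟨s, fun p ip hp => (hs p ip hp).1, ?_, ?_⟩
    · intro p q ip iq hp hq hpq
      obtain ⟨h1, h2⟩ := hs p ip hp
      obtain ⟨h3, h4⟩ := hs q iq hq
      have h5 := act_form t (C6.cv U V ω p) (C6.cv U V ω q)
      rw [h2, h4, hermForm_smul_left, hermForm_smul_right] at h5
      have h6 : hermForm 6 F 2 (C6.cv U V ω p) (C6.cv U V ω q) ≠ 0 := fun h => hpq ((C6.herm_eq_zero hF hω hb _ _).1 h)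
      have h7 : K4.val ω (s p) * K4.val ω (s q) ^ 2 = 1 := by
        have : (K4.val ω (s p) * K4.val ω (s q) ^ 2) * hermForm 6 F 2 (C6.cv U V ω p) (C6.cv U V ω q) =
            1 * hermForm 6 F 2 (C6.cv U V ω p) (C6.cv U V ω q) := by
          rw [one_mul]; linear_combination h5
        exact mul_right_cancel₀ h6 this
      have h8 : K4.val ω (s q) ≠ 0 := fun h => h3 ((K4.val_eq_zero hω).1 h)
      have h9 := pow_three_eq_one hF h8
      apply K4.val_inj hF hω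
      calc K4.val ω (s p) = K4.val ω (s p) * K4.val ω (s q) ^ 3 := by rw [h9, mul_one]
        _ = (K4.val ω (s p) * K4.val ω (s q) ^ 2) * K4.val ω (s q) := by ring
        _ = K4.val ω (s q) := by rw [h7, one_mul]
    · intro S hS hsc hne hsp
      obtain ⟨p0, hp0⟩ := List.exists_mem_of_ne_nil S hne
      set l : F := K4.val ω (s p0) with hl
      have hl0 : l ≠ 0 := fun h => (hs p0 (hS p0 hp0).1 (hS p0 hp0).2).1 ((K4.val_eq_zero hω).1 h)
      have hl3 := pow_three_eq_one hF hl0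
      have hall : ∀ x : Fin 6 → F, act t x = l • x := by
        intro x
        rw [← sub_eq_zero]
        obtain ⟨c, hc⟩ := C6.exists_code hF hω hb (act t x - l • x)
        rw [hc]
        have : c = C6.zero := by
          apply hsp
          intro p hp
          rw [← C6.herm_eq_zero hF hω hb, ← hc, hermForm_sub_left, hermForm_smul_left]
          obtain ⟨h1, h2⟩ := hs p (hS p hp).1 (hS p hp).2
          rw [hsc p hp p0 hp0, ← hl] at h2
          have h3 := act_form t x (C6.cv U V ω p)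
          rw [h2, hermForm_smul_right] at h3
          rw [← h3]
          linear_combination -(hermForm 6 F 2 (act t x) (C6.cv U V ω p)) * hl3
        rw [this, C6.cv_zero]
      apply h.centralizer_perp hd
      intro y hy
      have h1 := (Δ.conj_of_act h.hconj hζc ht hy).2
      rw [hall, Δ.pt_smul (Δ.ne y hy) (Δ.iso y hy) hl0, Δ.pt_vec_self hy, mul_inv_eq_iff_eq_mul] at h1
      exact h1.symm

end Cfsg.Agent.FW
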