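import Cfsg.Agent.Fi22.Conf2
import Cfsg.Agent.FW.Conf

/-!
# The configuration in coordinates around `h`
-/

set_option autoImplicit false
set_option linter.unusedSectionVars false

namespace Cfsg.Agent.FW

open Cfsg.Agent.Fi22

open Finset Matrix Module Cfsg.Agent.Uni Cfsg.Agent.ThreeTransp

open C6

variable {G : Type*} [Group G] {D : Set G}

theorem cc_iff {g x y : G} : Commute (g * x * g⁻¹) y ↔ Commute x (g⁻¹ * y * g) := by
  have := commute_conj_iff (x := x) (y := g⁻¹ * y * g) g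
  have e : g * (g⁻¹ * y * g) * g⁻¹ = y := by group
  rw [e] at this
  exact this

theorem conj_of_comm {g y : G} (h : Commute g y) : g⁻¹ * y * g = y := by
  rw [mul_assoc, ← h.eq, ← mul_assoc, inv_mul_cancel, one_mul]

namespace Conf

variable (K : Conf D)

/-- coordinates around `h` -/
structure CH where
  C : Co D K.h
  good : C.Good
  a : C.P E0 = K.a
  c : C.P E1 = K.c
  e : C.P E2 = K.e
  g : C.P E3 = K.g
  b : C.P B1 = K.b
  f : C.P B2 = K.f
  q : C.P PP = K.q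

variable [Finite G] (H : H22 D)

include H

omit [Finite G] H in
theorem ne_h {x : G} (hx : Commute x K.i) : x ≠ K.h := by
  rintro rfl
  exact K.nhi hx

theorem hex_h : ∀ s ∈ [K.C.P E0, K.C.P E1, K.C.P E2, K.C.P E3, K.C.P E4, K.C.P E5], s ∈ perp D K.h := by
  intro s hs
  have hnd := K.hl.1
  simp only [List.nodup_cons, List.mem_cons, List.not_mem_nil, or_false, not_or, List.nodup_nil, and_true,
    not_false_eq_true] at hnd
  obtain ⟨⟨n12, n13, -⟩, ⟨n23, -⟩, -⟩ := hnd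
  have xs : Commute K.h s := H.six_all K.hl K.hh (a := K.C.P E0) (b := K.C.P E1) (c := K.C.P E2) (by simp)
    (by simp) (by simp) n12 n13 n23 K.h0 K.h1 K.h2 hs
  refine ⟨K.hl.2.2.1 s hs, ?_, xs⟩
  apply K.ne_h
  simp only [List.mem_cons, List.not_mem_nil, or_false] at hs
  rcases hs with rfl | rfl | rfl | rfl | rfl | rfl
  · exact (K.C.mem _ iE0).2.2.symm
  · exact (K.C.mem _ iE1).2.2.symm
  · exact (K.C.mem _ iE2).2.2.symm
  · exact (K.C.mem _ iE3).2.2.symm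
  · exact (K.C.mem _ iE4).2.2.symm
  · exact (K.C.mem _ iE5).2.2.symm

theorem exists_CH : Nonempty K.CH := by
  have hb : K.b ∈ perp D K.h := ⟨K.mb, K.ne_h K.bi, K.hb⟩
  have hf : K.f ∈ perp D K.h := ⟨K.mf, K.ne_h K.fi, K.hf⟩
  obtain ⟨C, good, c0, c1, c2, c3, -, cb, cf⟩ := H.exists_co_full K.hh K.hl (K.hex_h H) hb hf K.be K.bg
    (fun h => K.ab h.symm) K.af.symm K.cf.symm (fun h => K.ef h.symm) K.bf
  refine ⟨⟨C, good, c0, c1, c2, c3, cb, cf, ?_⟩⟩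
  have hq : K.q ∈ perp D K.h := ⟨K.mq H, K.qh_ne H, K.hq H⟩
  obtain ⟨π, hπ, eπ⟩ := C.surj _ hq
  have k0 : π.fm E0 = .z := by rw [← C.comm _ _ hπ iE0, ← eπ, c0]; exact K.qa
  have k1 : π.fm E1 = .z := by rw [← C.comm _ _ hπ iE1, ← eπ, c1]; exact K.qc
  have k2 : π.fm E2 = .z := by rw [← C.comm _ _ hπ iE2, ← eπ, c2]; exact K.qe
  have k3 : π.fm B1 = .z := by rw [← C.comm _ _ hπ iB1, ← eπ, cb]; exact K.qb
  have k4 : π.fm B2 = .z := by rw [← C.comm _ _ hπ iB2, ← eπ, cf]; exact K.qf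
  have key : ∀ a b c x y t : K4, iso ⟨a, b, c, x, y, t⟩ = true → fm ⟨a, b, c, x, y, t⟩ E0 = .z →
      fm ⟨a, b, c, x, y, t⟩ E1 = .z → fm ⟨a, b, c, x, y, t⟩ E2 = .z → fm ⟨a, b, c, x, y, t⟩ B1 = .z →
      fm ⟨a, b, c, x, y, t⟩ B2 = .z → ∃ k : K4, k ≠ .z ∧ (⟨a, b, c, x, y, t⟩ : C6) = sm k PP := by decide +kernel
  obtain ⟨k, hk, e⟩ : ∃ k : K4, k ≠ .z ∧ π = sm k PP := by
    obtain ⟨a, b, c, x, y, t⟩ := π
    exact key a b c x y t hπ k0 k1 k2 k3 k4
  rw [e, C.smul k PP hk iPP] at eπ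
  exact eπ.symm

omit [Finite G] H in
/-- the reflection in the highest root of the subdiagram of type `D₄` -/
noncomputable def del : G := K.d * K.h * K.e * K.c * K.d * K.c * K.e * K.h * K.d

omit [Finite G] H in
theorem del_def : K.del = K.d * K.h * K.e * K.c * K.d * K.c * K.e * K.h * K.d := rfl

theorem isE7 : Fi22.IsE7 D K.c K.d K.e K.h K.f K.b K.a where
  mc := K.mc
  md := K.md
  me := K.me
  mh := K.hh
  mf := K.mf
  mb := K.mb
  ma := K.ma
  cd := K.cd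
  de := K.de
  dh := fun h => K.hd H h.symm
  ef := K.ef
  cb := fun h => K.bc h.symm
  ba := fun h => K.ab h.symm
  ce := K.ce
  ch := K.h1.symm
  cf := K.cf
  ca := K.ac.symm
  df := K.df
  db := K.bd.symm
  da := K.ad.symm
  eh := K.h2.symm
  eb := K.be.symm
  ea := K.ae.symm
  hf := K.hf
  hb := K.hb
  ha := K.h0
  fb := K.bf.symm
  fa := K.af.symm

/-- the opposite diagram -/
theorem isE7' : Fi22.IsE7 D K.e K.d K.c K.h K.b K.f K.g where
  mc := K.me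
  md := K.md
  me := K.mc
  mh := K.hh
  mf := K.mb
  mb := K.mf
  ma := K.mg
  cd := fun h => K.de h.symm
  de := fun h => K.cd h.symm
  dh := fun h => K.hd H h.symm
  ef := fun h => K.bc h.symm
  cb := K.ef
  ba := K.fg
  ce := K.ce.symm
  ch := K.h2.symm
  cf := K.be.symm
  ca := K.eg
  df := K.bd.symm
  db := K.df
  da := K.dg
  eh := K.h1.symm
  eb := K.cf
  ea := K.cg
  hf := K.hb
  hb := K.hf
  ha := K.h3
  fb := K.bf
  fa := K.bg

theorem del_eq : K.del = (K.d * K.h * K.e * K.c) * K.d * (K.d * K.h * K.e * K.c)⁻¹ := by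
  rw [del_def]
  simp only [_root_.mul_inv_rev, inv_eq H.cls.1 K.mc, inv_eq H.cls.1 K.md, inv_eq H.cls.1 K.me, inv_eq H.cls.1 K.hh, mul_assoc]

theorem m_del : K.del ∈ D := by
  rw [K.del_eq H]; exact H.hconj _ _ K.md

theorem del_c : Commute K.del K.c := (K.isE7 H).delta H.cls.1 _ (by simp)
theorem del_e : Commute K.del K.e := (K.isE7 H).delta H.cls.1 _ (by simp)
theorem del_h : Commute K.del K.h := (K.isE7 H).delta H.cls.1 _ (by simp)

omit [Finite G] H in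
theorem del_a : Commute K.del K.a := by
  rw [del_def]
  have a1 := K.ad.symm
  have a2 := K.h0
  have a3 := K.ae.symm
  have a4 := K.ac.symm
  exact ((((((((a1.mul_left a2).mul_left a3).mul_left a4).mul_left a1).mul_left a4).mul_left a3).mul_left a2).mul_left a1)

omit [Finite G] H in
theorem del_g : Commute K.del K.g := by
  rw [del_def]
  have a1 := K.dg
  have a2 := K.h3
  have a3 := K.eg
  have a4 := K.cg
  exact ((((((((a1.mul_left a2).mul_left a3).mul_left a4).mul_left a1).mul_left a4).mul_left a3).mul_left a2).mul_left a1)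

theorem del_b : ¬ Commute K.del K.b := by
  intro h1
  rw [K.del_eq H, cc_iff] at h1
  have e1 : (K.d * K.h * K.e * K.c)⁻¹ * K.b * (K.d * K.h * K.e * K.c) = K.c⁻¹ * K.b * K.c := by
    have c1 : Commute (K.d * K.h * K.e) K.b := (K.bd.symm.mul_left K.hb).mul_left K.be.symm
    calc (K.d * K.h * K.e * K.c)⁻¹ * K.b * (K.d * K.h * K.e * K.c)
        = K.c⁻¹ * ((K.d * K.h * K.e)⁻¹ * K.b * (K.d * K.h * K.e)) * K.c := by group
      _ = _ := by rw [conj_of_comm c1]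
  rw [e1, inv_eq H.cls.1 K.mc] at h1
  have e2 : K.c * K.b * K.c = K.C.P (cj B1 E1) := by
    rw [← K.C.conj _ _ iB1 iE1, inv_eq H.cls.1 K.mc]
  rw [e2, K.C.comm _ _ iDD (by decide)] at h1
  exact absurd h1 (by decide)

theorem del_f : ¬ Commute K.del K.f := by
  intro h1
  rw [K.del_eq H, cc_iff] at h1
  have e1 : (K.d * K.h * K.e * K.c)⁻¹ * K.f * (K.d * K.h * K.e * K.c) = K.e⁻¹ * K.f * K.e := by
    have c1 : Commute (K.d * K.h) K.f := K.df.mul_left K.hf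
    have c2 : Commute K.c (K.e⁻¹ * K.f * K.e) := (K.ce.inv_right.mul_right K.cf).mul_right K.ce
    calc (K.d * K.h * K.e * K.c)⁻¹ * K.f * (K.d * K.h * K.e * K.c)
        = K.c⁻¹ * (K.e⁻¹ * ((K.d * K.h)⁻¹ * K.f * (K.d * K.h)) * K.e) * K.c := by group
      _ = _ := by rw [conj_of_comm c1, conj_of_comm c2]
  rw [e1, inv_eq H.cls.1 K.me] at h1
  have e2 : K.e * K.f * K.e = K.C.P (cj B2 E2) := by
    rw [← K.C.conj _ _ iB2 iE2, inv_eq H.cls.1 K.me]
  rw [e2, K.C.comm _ _ iDD (by decide)] at h1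
  exact absurd h1 (by decide)

/-- the conjugate of `i` in the centraliser of `h` -/
noncomputable def j : G := (K.d * K.h) * K.i * (K.d * K.h)⁻¹

omit [Finite G] H in
theorem j_def : K.j = (K.d * K.h) * K.i * (K.d * K.h)⁻¹ := rfl

theorem mj : K.j ∈ D := H.hconj _ _ K.hi

theorem j_h : Commute K.j K.h := by
  rw [j_def, cc_iff]
  have e1 : (K.d * K.h)⁻¹ * K.h * (K.d * K.h) = K.d := by
    have b := braid H.cls.1 K.md K.hh (fun h => K.hd H h.symm)
    have sh := mul_self H.cls.1 K.hh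
    rw [_root_.mul_inv_rev, inv_eq H.cls.1 K.hh, inv_eq H.cls.1 K.md]
    calc K.h * K.d * K.h * (K.d * K.h) = K.h * (K.d * K.h * K.d) * K.h := by group
      _ = (K.h * K.h) * K.d * (K.h * K.h) := by rw [b]; group
      _ = K.d := by rw [sh, one_mul, mul_one]
  rw [e1]
  exact K.di.symm

theorem j_x {x : G} (hx : x ∈ D) (xi : Commute x K.i) (xh : Commute x K.h) (xd : ¬ Commute x K.d) :
    ¬ Commute K.j x := by
  rw [j_def, cc_iff]
  have e1 : (K.d * K.h)⁻¹ * x * (K.d * K.h) = x * (K.h * K.d * K.h) * x⁻¹ := by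
    have b := braid H.cls.1 K.md hx (fun h => xd h.symm)
    rw [_root_.mul_inv_rev, inv_eq H.cls.1 K.hh, inv_eq H.cls.1 K.md, inv_eq H.cls.1 hx]
    calc K.h * K.d * x * (K.d * K.h) = K.h * (K.d * x * K.d) * K.h := by group
      _ = (K.h * x) * K.d * (x * K.h) := by rw [b]; group
      _ = (x * K.h) * K.d * (K.h * x) := by rw [xh.eq]
      _ = _ := by group
  rw [e1]
  intro h1
  have h2 := h1.symm
  rw [cc_iff, conj_of_comm xi] at h2
  -- now `hdh` commutes with `i`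
  have e2 : K.h * K.d * K.h = K.h * K.d * K.h⁻¹ := by rw [inv_eq H.cls.1 K.hh]
  rw [e2, cc_iff] at h2
  have e3 : K.h⁻¹ * K.i * K.h = K.i * K.h * K.i⁻¹ := by
    rw [inv_eq H.cls.1 K.hh, inv_eq H.cls.1 K.hi]
    exact braid H.cls.1 K.hh K.hi K.nhi
  rw [e3] at h2
  have h3 := h2.symm
  rw [cc_iff, conj_of_comm K.di.symm] at h3
  exact K.hd H h3

theorem j_c : ¬ Commute K.j K.c := K.j_x H K.mc K.ci K.h1.symm K.cd
theorem j_e : ¬ Commute K.j K.e := K.j_x H K.me K.ei K.h2.symm (fun h => K.de h.symm)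

omit [Finite G] H in
theorem j_y {x : G} (xi : Commute x K.i) (xh : Commute x K.h) (xd : Commute x K.d) : Commute K.j x := by
  rw [j_def]
  exact conj_comm (xd.symm.mul_left xh.symm) xi.symm

omit [Finite G] H in
theorem j_a : Commute K.j K.a := K.j_y K.ai K.h0.symm K.ad
omit [Finite G] H in
theorem j_b : Commute K.j K.b := K.j_y K.bi K.hb.symm K.bd
omit [Finite G] H in
theorem j_f : Commute K.j K.f := K.j_y K.fi K.hf.symm K.df.symm
omit [Finite G] H in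
theorem j_g : Commute K.j K.g := K.j_y K.gi K.h3.symm K.dg.symm

theorem j_ne_h : K.j ≠ K.h := by
  intro h1
  apply K.j_c H
  rw [h1]; exact K.h1

theorem del_ne_h : K.del ≠ K.h := by
  intro h1
  apply K.del_b H
  rw [h1]; exact K.hb

namespace CH

variable {K} (A : K.CH)

set_option synthInstance.maxSize 2000 in
set_option synthInstance.maxHeartbeats 400000 in
theorem j_code : ∃ k : K4, K.j = A.C.P ⟨k, k, .z, .z, .o, .o⟩ ∧ iso ⟨k, k, .z, .z, .o, .o⟩ = true := by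
  have hj : K.j ∈ perp D K.h := ⟨K.mj H, K.j_ne_h H, (K.j_h H).symm⟩
  obtain ⟨π, hπ, eπ⟩ := A.C.surj _ hj
  have k0 : π.fm E0 = .z := by rw [← A.C.comm _ _ hπ iE0, ← eπ, A.a]; exact K.j_a
  have k1 : π.fm E1 ≠ .z := by rw [Ne, ← A.C.comm _ _ hπ iE1, ← eπ, A.c]; exact K.j_c H
  have k2 : π.fm E2 ≠ .z := by rw [Ne, ← A.C.comm _ _ hπ iE2, ← eπ, A.e]; exact K.j_e H
  have k3 : π.fm E3 = .z := by rw [← A.C.comm _ _ hπ iE3, ← eπ, A.g]; exact K.j_g
  have k4 : π.fm B1 = .z := by rw [← A.C.comm _ _ hπ iB1, ← eπ, A.b]; exact K.j_b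
  have k5 : π.fm B2 = .z := by rw [← A.C.comm _ _ hπ iB2, ← eπ, A.f]; exact K.j_f
  have key : ∀ a b c x y t : K4, iso ⟨a, b, c, x, y, t⟩ = true → fm ⟨a, b, c, x, y, t⟩ E0 = .z →
      fm ⟨a, b, c, x, y, t⟩ E1 ≠ .z → fm ⟨a, b, c, x, y, t⟩ E2 ≠ .z → fm ⟨a, b, c, x, y, t⟩ E3 = .z →
      fm ⟨a, b, c, x, y, t⟩ B1 = .z → fm ⟨a, b, c, x, y, t⟩ B2 = .z → ∃ k m : K4, m ≠ .z ∧
      iso ⟨k, k, .z, .z, .o, .o⟩ = true ∧
      (⟨a, b, c, x, y, t⟩ : C6) = sm m ⟨k, k, .z, .z, .o, .o⟩ := by decide +kernel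
  obtain ⟨k, m, hm, ik, e⟩ : ∃ k m : K4, m ≠ .z ∧ iso ⟨k, k, .z, .z, .o, .o⟩ = true ∧
      π = sm m ⟨k, k, .z, .z, .o, .o⟩ := by
    obtain ⟨a, b, c, x, y, t⟩ := π
    exact key a b c x y t hπ k0 k1 k2 k3 k4 k5
  refine ⟨k, ?_, ik⟩
  rw [eπ, e, A.C.smul _ _ hm ik]

theorem del_code : ∃ α β γ : K4, K.del = A.C.P ⟨α, β, γ, .z, .z, .z⟩ ∧ iso ⟨α, β, γ, .z, .z, .z⟩ = true ∧
    fm ⟨α, β, γ, .z, .z, .z⟩ B1 ≠ .z ∧ fm ⟨α, β, γ, .z, .z, .z⟩ B2 ≠ .z := by
  have hj : K.del ∈ perp D K.h := ⟨K.m_del H, K.del_ne_h H, (K.del_h H).symm⟩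
  obtain ⟨π, hπ, eπ⟩ := A.C.surj _ hj
  have k0 : π.fm E0 = .z := by rw [← A.C.comm _ _ hπ iE0, ← eπ, A.a]; exact K.del_a
  have k1 : π.fm E1 = .z := by rw [← A.C.comm _ _ hπ iE1, ← eπ, A.c]; exact K.del_c H
  have k2 : π.fm E2 = .z := by rw [← A.C.comm _ _ hπ iE2, ← eπ, A.e]; exact K.del_e H
  have k4 : π.fm B1 ≠ .z := by rw [Ne, ← A.C.comm _ _ hπ iB1, ← eπ, A.b]; exact K.del_b H
  have k5 : π.fm B2 ≠ .z := by rw [Ne, ← A.C.comm _ _ hπ iB2, ← eπ, A.f]; exact K.del_f H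
  have key : ∀ a b c x y t : K4, fm ⟨a, b, c, x, y, t⟩ E0 = .z →
      fm ⟨a, b, c, x, y, t⟩ E1 = .z → fm ⟨a, b, c, x, y, t⟩ E2 = .z →
      x = .z ∧ y = .z ∧ t = .z := by decide +kernel
  obtain ⟨a, b, c, x, y, t⟩ := π
  obtain ⟨rfl, rfl, rfl⟩ := key a b c x y t k0 k1 k2
  exact ⟨a, b, c, eπ, hπ, k4, k5⟩

end CH

end Conf

end Cfsg.Agent.FW
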