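import Cfsg.Agent.Fi22.Conf3
import Cfsg.Agent.FW.Conf2

/-!
# The reflection in the highest root of `D₄` is not on the hexad of `h`, `c`, `e`
-/

set_option autoImplicit false
set_option linter.unusedSectionVars false
set_option synthInstance.maxSize 2000
set_option synthInstance.maxHeartbeats 400000

namespace Cfsg.Agent.FW

open Cfsg.Agent.Fi22

open Finset Matrix Module Cfsg.Agent.Uni Cfsg.Agent.ThreeTransp

open C6

variable {G : Type*} [Group G] {D : Set G}

namespace Conf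

namespace CH

variable {K : Conf D} [Finite G] (H : H22 D) (A : K.CH)

include H A

/-- points of the plane commute with `a` -/
theorem perp_a (p : C6) (hp : p.iso = true) (hf : p.fm E0 = .z) (hn : p.np E0 = true) : A.C.P p ∈ perp D K.a := by
  rw [← A.a]
  exact ⟨(A.C.mem _ hp).1, A.C.ne _ _ hp iE0 hn, ((A.C.comm _ _ hp iE0).2 hf).symm⟩

omit [Finite G] H A in
theorem h_perp_a : K.h ∈ perp D K.a := ⟨K.hh, (K.ne_h K.ai).symm, K.h0.symm⟩

/-- a hexad through `c`, `e`, `h` and `del` gives a contradiction -/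
theorem no_hexad {m5 m6 : G} (hM : IsFact D 6 1 [K.c, K.e, K.h, K.del, m5, m6]) (h5 : m5 ∈ perp D K.a)
    (h6 : m6 ∈ perp D K.a) : False := by
  have pc : K.c ∈ perp D K.a := by rw [← A.c]; exact A.perp_a H _ iE1 (by decide) (by decide)
  have pe : K.e ∈ perp D K.a := by rw [← A.e]; exact A.perp_a H _ iE2 (by decide) (by decide)
  have ph : K.h ∈ perp D K.a := h_perp_a
  have pdel : K.del ∈ perp D K.a := by
    refine ⟨K.m_del H, ?_, K.del_a.symm⟩
    intro h1
    apply K.del_f H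
    rw [h1]; exact K.af
  have pd : K.d ∈ perp D K.a := by
    refine ⟨K.md, ?_, K.ad⟩
    intro h1
    apply K.cd
    rw [h1]; exact K.ac.symm
  have pM : ∀ s ∈ [K.c, K.e, K.h, K.del, m5, m6], s ∈ perp D K.a := by
    intro s hs
    simp only [List.mem_cons, List.not_mem_nil, or_false] at hs
    rcases hs with rfl | rfl | rfl | rfl | rfl | rfl
    · exact pc
    · exact pe
    · exact ph
    · exact pdel
    · exact h5
    · exact h6
  obtain ⟨C, good, c0, c1, c2, c3, c45⟩ := H.exists_co_good K.ma hM pM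
  -- the member `g`
  have hnd := K.hl.1
  simp only [List.nodup_cons, List.mem_cons, List.not_mem_nil, or_false, not_or, List.nodup_nil, and_true,
    not_false_eq_true] at hnd
  obtain ⟨⟨nac, nae, nag, -⟩, ⟨nce, ncg, -⟩, ⟨neg, -⟩, -⟩ := hnd
  obtain ⟨k1, hk1, eg⟩ : ∃ k, k ≠ K4.z ∧ K.g = C.P (E0.add (sm k E1)) := by
    have L := C.line E0 E1 iE0 iE1 (by decide) (by decide)
    rw [c0, c1] at L
    have := H.fact6_ext K.hl L (a := K.a) (b := K.c) (c := K.e) (by simp) (by simp) (by simp) (by simp) (by simp)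
      (by simp) nac nae nce K.g (by simp)
    simp only [List.mem_cons, List.not_mem_nil, or_false] at this
    rcases this with h | h | h | h | h | h
    · exact absurd h.symm nag
    · exact absurd h.symm ncg
    · exact absurd h.symm neg
    · exact ⟨.o, by decide, h⟩
    · exact ⟨.w, by decide, h⟩
    · exact ⟨.v, by decide, h⟩
  -- the member `q`
  obtain ⟨k2, hk2, eq⟩ : ∃ k, k ≠ K4.z ∧ K.q = C.P (E0.add (sm k E2)) := by
    have L := C.line E0 E2 iE0 iE2 (by decide) (by decide)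
    have L' := A.C.line E0 E1 iE0 iE1 (by decide) (by decide)
    have e1 : E0.add E1 = PP := by decide
    rw [e1, A.q, A.a, A.c] at L'
    rw [c0, c2] at L
    have nha : K.h ≠ K.a := (K.ne_h K.ai).symm
    have nhc : K.h ≠ K.c := (K.ne_h K.ci).symm
    have this := H.fact6_ext L' L (a := K.h) (b := K.a) (c := K.c) (by simp) (by simp) (by simp) (by simp) (by simp)
      (by simp) nha nhc nac K.q (by simp)
    simp only [List.mem_cons, List.not_mem_nil, or_false] at this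
    rcases this with h | h | h | h | h | h
    · exfalso; apply K.ab; rw [← h]; exact K.qb
    · exfalso; apply K.bc; rw [← h]; exact K.qb.symm
    · exact absurd h (K.qh_ne H)
    · exact ⟨.o, by decide, h⟩
    · exact ⟨.w, by decide, h⟩
    · exact ⟨.v, by decide, h⟩
  -- the member `d`
  obtain ⟨κ, hκ, ed⟩ := C.surj _ pd
  have x0 : κ.fm E0 ≠ .z := by rw [Ne, ← C.comm _ _ hκ iE0, ← ed, c0]; exact fun h => K.cd h.symm
  have x1 : κ.fm E1 ≠ .z := by rw [Ne, ← C.comm _ _ hκ iE1, ← ed, c1]; exact K.de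
  have x2 : κ.fm E2 ≠ .z := by rw [Ne, ← C.comm _ _ hκ iE2, ← ed, c2]; exact fun h => K.hd H h.symm
  have key : ∀ a b c x y t : K4, fm ⟨a, b, c, x, y, t⟩ E0 ≠ .z → fm ⟨a, b, c, x, y, t⟩ E1 ≠ .z →
      fm ⟨a, b, c, x, y, t⟩ E2 ≠ .z → iso ⟨a, b, c, x, y, t⟩ = true →
      iso (cj ⟨a, b, c, x, y, t⟩ E0) = true ∧ iso (cj (cj ⟨a, b, c, x, y, t⟩ E0) E1) = true ∧
      iso (cj (cj (cj ⟨a, b, c, x, y, t⟩ E0) E1) E2) = true ∧
      iso (cj (cj (cj (cj ⟨a, b, c, x, y, t⟩ E0) E1) E2) ⟨a, b, c, x, y, t⟩) = true ∧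
      (np (cj (cj (cj (cj ⟨a, b, c, x, y, t⟩ E0) E1) E2) ⟨a, b, c, x, y, t⟩) E3 = false → x = y ∧ x = t) := by
    decide +kernel
  have hfm : ∀ a b c x y t k : K4, fm ⟨a, b, c, x, y, t⟩ (E0.add (sm k E1)) = x.add (y.mul k.sq) ∧
      fm ⟨a, b, c, x, y, t⟩ (E0.add (sm k E2)) = x.add (t.mul k.sq) := by decide +kernel
  obtain ⟨a', b', c', x, y, t⟩ := κ
  obtain ⟨j1, j2, j3, j4, j5⟩ := key a' b' c' x y t x0 x1 x2 hκ
  have edel : K.del = C.P (cj (cj (cj (cj ⟨a', b', c', x, y, t⟩ E0) E1) E2) ⟨a', b', c', x, y, t⟩) := by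
    rw [← C.conj _ _ j3 hκ, ← C.conj _ _ j2 iE2, ← C.conj _ _ j1 iE1, ← C.conj _ _ hκ iE0, ← ed, c0, c1, c2]
    rw [K.del_eq H]
    group
  have hnp : np (cj (cj (cj (cj ⟨a', b', c', x, y, t⟩ E0) E1) E2) ⟨a', b', c', x, y, t⟩) E3 = false := by
    by_contra h1
    rw [Bool.not_eq_false] at h1
    exact C.ne _ _ j4 iE3 h1 (by rw [c3, edel])
  obtain ⟨rfl, rfl⟩ := j5 hnp
  have hx0 : x ≠ .z := by
    intro h1
    apply x0
    have : ∀ a b c x y t : K4, x = .z → fm ⟨a, b, c, x, y, t⟩ E0 = .z := by decide +kernel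
    exact this _ _ _ _ _ _ h1
  -- `g`
  have ig : ∀ k : K4, (E0.add (sm k E1)).iso = true ∧ (E0.add (sm k E2)).iso = true := by decide
  have g1 : fm ⟨a', b', c', x, x, x⟩ (E0.add (sm k1 E1)) = .z := by
    rw [← C.comm _ _ hκ (ig k1).1, ← ed, ← eg]; exact K.dg
  have g2 : fm ⟨a', b', c', x, x, x⟩ (E0.add (sm k2 E2)) ≠ .z := by
    rw [Ne, ← C.comm _ _ hκ (ig k2).2, ← ed, ← eq]; exact fun h => K.qd H h.symm
  rw [(hfm _ _ _ _ _ _ _).1] at g1
  rw [(hfm _ _ _ _ _ _ _).2] at g2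
  have hk1' : ∀ x k : K4, x ≠ .z → x.add (x.mul k.sq) = .z → k = .o := by decide
  obtain rfl := hk1' x k1 hx0 g1
  -- the second hexad
  have LQ := A.C.line E2 E3 iE2 iE3 (by decide) (by decide)
  have e1 : E2.add E3 = PP := by decide
  rw [e1, A.q, A.e, A.g] at LQ
  set q5 := A.C.P (E2.add (sm .w E3)) with hq5
  set q6 := A.C.P (E2.add (sm .v E3)) with hq6
  have pq5 : q5 ∈ perp D K.a := A.perp_a H _ (by decide) (by decide) (by decide)
  have pq6 : q6 ∈ perp D K.a := A.perp_a H _ (by decide) (by decide) (by decide)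
  have pg : K.g ∈ perp D K.a := by rw [← A.g]; exact A.perp_a H _ iE3 (by decide) (by decide)
  have pq : K.q ∈ perp D K.a := by rw [← A.q]; exact A.perp_a H _ iPP (by decide) (by decide)
  have so : sm .o E1 = E1 := by decide
  rw [so] at eg
  have hM2 := hM.1
  simp only [List.nodup_cons, List.mem_cons, List.not_mem_nil, or_false, not_or, List.nodup_nil, and_true,
    not_false_eq_true] at hM2
  obtain ⟨⟨mce, mch, mcd, mc5, mc6⟩, ⟨meh, med, me5, me6⟩, ⟨mhd, mh5, mh6⟩, -⟩ := hM2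
  have hperm : [K.h, K.e, K.g, K.q, q5, q6].Perm [K.e, K.h, K.g, K.q, q5, q6] := List.Perm.swap _ _ _
  have LQ' := fact_permute LQ hperm
  have pQ : ∀ s ∈ [K.e, K.h, K.g, K.q, q5, q6], s ∈ perp D K.a := by
    intro s hs
    simp only [List.mem_cons, List.not_mem_nil, or_false] at hs
    rcases hs with rfl | rfl | rfl | rfl | rfl | rfl
    · exact pe
    · exact ph
    · exact pg
    · exact pq
    · exact pq5
    · exact pq6
  -- a common third point
  have final : ∀ X : G, (X = m5 ∨ X = m6) → (X = q5 ∨ X = q6) → False := by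
    intro X hX1 hX2
    have hXM : X ∈ [K.c, K.e, K.h, K.del, m5, m6] := by
      rcases hX1 with rfl | rfl <;> simp
    have hXQ : X ∈ [K.h, K.e, K.g, K.q, q5, q6] := by
      rcases hX2 with rfl | rfl <;> simp
    have ne1 : K.e ≠ X := by rcases hX1 with rfl | rfl <;> assumption
    have ne2 : K.h ≠ X := by rcases hX1 with rfl | rfl <;> assumption
    have hg := H.fact6_ext LQ hM (a := K.e) (b := K.h) (c := X) (by simp) (by simp) hXQ (by simp) (by simp) hXM
      meh ne1 ne2 K.g (by simp)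
    have iS : (E0.add E1).iso = true := by decide
    simp only [List.mem_cons, List.not_mem_nil, or_false] at hg
    rcases hg with h | h | h | h | h | h
    · exact ncg h.symm
    · exact neg h.symm
    · apply K.nhi; rw [← h]; exact K.gi
    · rw [eg, ← c3] at h
      exact C.ne _ _ iS iE3 (by decide) h
    · rcases c45 with ⟨c4, c5⟩ | ⟨c4, c5⟩
      · rw [eg, ← c4] at h
        exact C.ne _ _ iS iE4 (by decide) h
      · rw [eg, ← c5] at h
        exact C.ne _ _ iS iE5 (by decide) h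
    · rcases c45 with ⟨c4, c5⟩ | ⟨c4, c5⟩
      · rw [eg, ← c5] at h
        exact C.ne _ _ iS iE5 (by decide) h
      · rw [eg, ← c4] at h
        exact C.ne _ _ iS iE4 (by decide) h
  have e4 : C.P E4 = m5 ∨ C.P E4 = m6 := by
    rcases c45 with ⟨c4, c5⟩ | ⟨c4, c5⟩
    · exact Or.inl c4
    · exact Or.inr c4
  have e5 : C.P E5 = m5 ∨ C.P E5 = m6 := by
    rcases c45 with ⟨c4, c5⟩ | ⟨c4, c5⟩
    · exact Or.inr c5
    · exact Or.inl c5
  have ehh : K.h = C.P (sm k2 E2) := by rw [C.smul _ _ hk2 iE2, c2]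
  have hsum : ∀ k : K4, (E1.add (sm k E2)).add (E0.add E1) = E0.add (sm k E2) := by decide
  have i2 : ∀ k : K4, k ≠ .z → (sm k E2).iso = true := by decide
  have hyp := good.hyper E1 (sm k2 E2) (E0.add E1) q5 q6 iE1 (i2 k2 hk2) (by decide)
    (by rw [hsum]; exact (ig k2).2) (by rw [hsum, c1, ← ehh, ← eg, ← eq]; exact LQ')
    (by rw [hsum, c1, ← ehh, ← eg, ← eq]; exact pQ)
  cases k2
  · exact hk2 rfl
  · have : ∀ x : K4, x.add (x.mul K4.o.sq) = .z := by decide
    exact g2 (this x)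
  · -- `ω`
    have hh : (E1.add ((sm .w E2).sm .v)).add ((E0.add E1).sm .w) = sm .w E4 := by decide
    rw [hh, C.smul _ _ (by decide) iE4] at hyp
    apply final (C.P E4) e4
    rcases hyp with ⟨-, h⟩ | ⟨-, h⟩
    · exact Or.inr h
    · exact Or.inl h
  · have hh : (E1.add ((sm .v E2).sm .w)).add ((E0.add E1).sm .v) = sm .v E5 := by decide
    rw [hh, C.smul _ _ (by decide) iE5] at hyp
    apply final (C.P E5) e5
    rcases hyp with ⟨h, -⟩ | ⟨h, -⟩
    · exact Or.inl h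
    · exact Or.inr h

theorem del_off {α β γ : K4} (hd : K.del = A.C.P ⟨α, β, γ, .z, .z, .z⟩) (hi : iso ⟨α, β, γ, .z, .z, .z⟩ = true)
    (hb : fm ⟨α, β, γ, .z, .z, .z⟩ B1 ≠ .z) (hf : fm ⟨α, β, γ, .z, .z, .z⟩ B2 ≠ .z) : α ≠ .z := by
  rintro rfl
  have key : ∀ β γ : K4, fm ⟨.z, β, γ, .z, .z, .z⟩ B1 ≠ .z → fm ⟨.z, β, γ, .z, .z, .z⟩ B2 ≠ .z →
      ∃ k m : K4, k ≠ .z ∧ m ≠ .z ∧ (⟨.z, β, γ, .z, .z, .z⟩ : C6) = sm m (E1.add (sm k E2)) := by decide
  obtain ⟨k, m, hk, hm, e⟩ := key β γ hb hf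
  have ik : ∀ k : K4, (E1.add (sm k E2)).iso = true ∧ (E1.add (sm k E2)).fm E0 = .z ∧
      (E1.add (sm k E2)).np E0 = true := by decide
  rw [e, A.C.smul _ _ hm (ik k).1] at hd
  have L := A.C.line E1 E2 iE1 iE2 (by decide) (by decide)
  rw [A.c, A.e] at L
  have so : sm .o E2 = E2 := by decide
  have pk : ∀ k : K4, A.C.P (E1.add (sm k E2)) ∈ perp D K.a := fun k =>
    A.perp_a H _ (ik k).1 (ik k).2.1 (ik k).2.2
  have po : A.C.P (E1.add E2) ∈ perp D K.a := by rw [← so]; exact pk _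
  have rot : ∀ x1 x2 x3 x4 x5 x6 : G, [x1, x2, x3, x4, x5, x6].Perm [x2, x3, x1, x4, x5, x6] := fun _ _ _ _ _ _ =>
    (List.Perm.swap _ _ _).trans (List.Perm.cons _ (List.Perm.swap _ _ _))
  cases k
  · exact hk rfl
  · rw [so] at hd
    have L1 := fact_permute L (rot _ _ _ _ _ _)
    rw [← hd] at L1
    exact A.no_hexad H L1 (pk _) (pk _)
  · have L1 := fact_permute L ((rot _ _ _ _ _ _).trans
      (List.Perm.cons _ (List.Perm.cons _ (List.Perm.cons _ (List.Perm.swap _ _ _)))))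
    rw [← hd] at L1
    exact A.no_hexad H L1 po (pk _)
  · have L1 := fact_permute L ((rot _ _ _ _ _ _).trans
      (List.Perm.cons _ (List.Perm.cons _ (List.Perm.cons _
        ((List.Perm.cons _ (List.Perm.swap _ _ _)).trans (List.Perm.swap _ _ _))))))
    rw [← hd] at L1
    exact A.no_hexad H L1 po (pk _)

end CH

end Conf

end Cfsg.Agent.FW
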