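import Cfsg.Agent.FW.Quasi
import Cfsg.Agent.Fi22.Comb
import Cfsg.Agent.Uni.IsoCount

/-!
# The regularity parameters of a class of type M(22)
-/

set_option autoImplicit false
set_option linter.unusedSectionVars false

namespace Cfsg.Agent.FW

open Cfsg.Agent.Fi22

open Finset Matrix Module Cfsg.Agent.Uni Cfsg.Agent.ThreeTransp

section vec

variable {F : Type*} [Field F] [Fintype F] {n : ℕ}

theorem cnt_six (hF : Fintype.card F = 2 ^ 2) : cnt 6 F 2 0 - 1 = 2079 := by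
  have := cnt_zero_sub_one (F := F) hF 5
  norm_num at this
  exact_mod_cast this

theorem cnt_four (hF : Fintype.card F = 2 ^ 2) : cnt 4 F 2 0 - 1 = 135 := by
  have := cnt_zero_sub_one (F := F) hF 3
  norm_num at this
  exact_mod_cast this

theorem cnt_two (hF : Fintype.card F = 2 ^ 2) : cnt 2 F 2 0 - 1 = 9 := by
  have := cnt_zero_sub_one (F := F) hF 1
  norm_num at this
  exact_mod_cast this

/-- nonzero isotropic vectors -/
theorem card_all (hF : Fintype.card F = 2 ^ 2) (m : ℕ) :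
    Nat.card {w : Fin m → F // w ≠ 0 ∧ hermForm m F 2 w w = 0} = cnt m F 2 0 - 1 := by
  classical
  have h1 : Nat.card {w : Fin m → F // hermForm m F 2 w w = 0} =
      Nat.card {w : Fin m → F // w ≠ 0 ∧ hermForm m F 2 w w = 0} + 1 := by
    simp only [Nat.card_eq_fintype_card, Fintype.card_subtype]
    rw [← Finset.card_filter_add_card_filter_not (s := univ.filter fun w => hermForm m F 2 w w = 0) (fun w => w ≠ 0)]
    simp only [Finset.filter_filter]
    congr 1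
    · congr 1
      ext w; simp only [mem_filter, mem_univ, true_and]; tauto
    · rw [Finset.card_eq_one]
      refine ⟨0, ?_⟩
      ext w
      simp only [mem_filter, mem_univ, true_and, mem_singleton, not_not]
      constructor
      · exact fun h => h.2
      · rintro rfl; exact ⟨hermForm_zero_left _, rfl⟩
  unfold cnt
  rw [h1]; simp

theorem isTI_one {u : Fin n → F} (hu0 : u ≠ 0) (hu : hermForm n F 2 u u = 0) : IsTI 2 ![u] := by
  refine ⟨?_, fun i j => ?_⟩
  · rw [Fintype.linearIndependent_iff]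
    intro g hg i
    rw [Fin.sum_univ_one] at hg
    have : i = 0 := Subsingleton.elim _ _
    rw [this]
    exact (smul_eq_zero.1 hg).resolve_right hu0
  · have h1 : i = 0 := Subsingleton.elim _ _
    have h2 : j = 0 := Subsingleton.elim _ _
    rw [h1, h2]; exact hu

theorem isTI_two (hF : Fintype.card F = 2 ^ 2) {u v : Fin n → F} (hu0 : u ≠ 0) (huv : NP u v)
    (hu : hermForm n F 2 u u = 0) (hv : hermForm n F 2 v v = 0) (h : hermForm n F 2 u v = 0) :
    IsTI 2 ![u, v] := by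
  refine ⟨?_, fun i j => ?_⟩
  · rw [LinearIndependent.pair_iff]
    intro s t hst
    exact np_lin hu0 huv hst
  · have h' := (hermForm_eq_zero_comm hF).1 h
    fin_cases i <;> fin_cases j <;> assumption

/-- isotropic vectors orthogonal to `u`, not proportional to `u` -/
theorem card_perp_one (hF : Fintype.card F = 2 ^ 2) (hn : 2 ≤ n) {u : Fin n → F} (hu0 : u ≠ 0)
    (hu : hermForm n F 2 u u = 0) :
    Nat.card {w : Fin n → F // hermForm n F 2 w u = 0 ∧ hermForm n F 2 w w = 0 ∧ ∀ c : F, w ≠ c • u} =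
      4 * (cnt (n - 2) F 2 0 - 1) := by
  have h1 := card_ext hF (k := 1) (by omega) (isTI_one hu0 hu)
  rw [show 2 ^ (2 * 1) = 4 by norm_num, show n - 2 * 1 = n - 2 by omega] at h1
  rw [← h1]
  refine Nat.card_congr (Equiv.subtypeEquivRight fun w => ?_)
  have e : Set.range ![u] = {u} := by simp
  rw [e, mem_perp_span hF, Submodule.mem_span_singleton]
  simp only [Set.mem_singleton_iff, forall_eq]
  refine and_congr_right fun _ => and_congr_right fun _ => ?_
  constructor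
  · rintro h ⟨c, hc⟩; exact h c hc.symm
  · rintro h c hc; exact h ⟨c, hc.symm⟩

theorem card_perp_two (hF : Fintype.card F = 2 ^ 2) (hn : 4 ≤ n) {u v : Fin n → F} (hu0 : u ≠ 0) (hv0 : v ≠ 0)
    (huv : NP u v) (hu : hermForm n F 2 u u = 0) (hv : hermForm n F 2 v v = 0) (h : hermForm n F 2 u v = 0) :
    Nat.card {w : Fin n → F // w ≠ 0 ∧ hermForm n F 2 w u = 0 ∧ hermForm n F 2 w v = 0 ∧ hermForm n F 2 w w = 0 ∧
      (∀ c : F, w ≠ c • u) ∧ ∀ c : F, w ≠ c • v} = 16 * (cnt (n - 4) F 2 0 - 1) + 9 := by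
  classical
  have h1 := card_ext hF (k := 2) (by omega) (isTI_two hF hu0 huv hu hv h)
  rw [show 2 ^ (2 * 2) = 16 by norm_num, show n - 2 * 2 = n - 4 by omega] at h1
  have e : Set.range ![u, v] = {u, v} := by ext x; simp [eq_comm, or_comm]
  rw [e] at h1
  rw [← h1]
  -- the vectors of the plane
  have h2 : Nat.card {w : Fin n → F // (∃ a b : F, a ≠ 0 ∧ b ≠ 0 ∧ w = a • u + b • v)} = 9 := by
    have e1 : {w : Fin n → F // (∃ a b : F, a ≠ 0 ∧ b ≠ 0 ∧ w = a • u + b • v)} ≃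
        {a : F // a ≠ 0} × {b : F // b ≠ 0} := by
      refine (Equiv.ofBijective (fun p : {a : F // a ≠ 0} × {b : F // b ≠ 0} =>
        (⟨p.1.1 • u + p.2.1 • v, p.1.1, p.2.1, p.1.2, p.2.2, rfl⟩ :
        {w : Fin n → F // (∃ a b : F, a ≠ 0 ∧ b ≠ 0 ∧ w = a • u + b • v)})) ⟨?_, ?_⟩).symm
      · rintro ⟨⟨a, ha⟩, ⟨b, hb⟩⟩ ⟨⟨a', ha'⟩, ⟨b', hb'⟩⟩ hab
        have h3 := congrArg Subtype.val hab
        simp only at h3
        have h4 : (a - a') • u + (b - b') • v = 0 := by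
          rw [sub_smul, sub_smul]
          have : a • u - a' • u + (b • v - b' • v) = (a • u + b • v) - (a' • u + b' • v) := by abel
          rw [this, h3, sub_self]
        obtain ⟨h5, h6⟩ := np_lin hu0 huv h4
        have h7 := sub_eq_zero.1 h5
        have h8 := sub_eq_zero.1 h6
        subst h7; subst h8; rfl
      · rintro ⟨w, a, b, ha, hb, rfl⟩
        exact ⟨⟨⟨a, ha⟩, ⟨b, hb⟩⟩, rfl⟩
    have h3 : Nat.card {a : F // a ≠ 0} = 3 := by
      rw [Nat.card_eq_fintype_card, Fintype.card_subtype_compl, Fintype.card_subtype_eq, hF]; norm_num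
    rw [Nat.card_congr e1, Nat.card_prod, h3]
  rw [← h2]
  simp only [Nat.card_eq_fintype_card, Fintype.card_subtype]
  rw [← Finset.card_union_of_disjoint]
  · congr 1
    ext w
    simp only [mem_filter, mem_univ, true_and, mem_union]
    rw [mem_perp_span hF]
    simp only [Set.mem_insert_iff, Set.mem_singleton_iff, forall_eq_or_imp, forall_eq]
    constructor
    · rintro ⟨h3, h4, h5, h6, h7, h8⟩
      by_cases h9 : w ∈ Submodule.span F {u, v}
      · right
        obtain ⟨a, b, hab⟩ := Submodule.mem_span_pair.1 h9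
        refine ⟨a, b, ?_, ?_, hab.symm⟩
        · rintro rfl; exact h8 b (by rw [← hab, zero_smul, zero_add])
        · rintro rfl; exact h7 a (by rw [← hab, zero_smul, add_zero])
      · left; exact ⟨⟨h4, h5⟩, h6, h9⟩
    · rintro (⟨⟨h4, h5⟩, h6, h9⟩ | ⟨a, b, ha, hb, rfl⟩)
      · refine ⟨?_, h4, h5, h6, ?_, ?_⟩
        · rintro rfl; exact h9 (Submodule.zero_mem _)
        · rintro c rfl; exact h9 (Submodule.smul_mem _ _ (Submodule.subset_span (by simp)))
        · rintro c rfl; exact h9 (Submodule.smul_mem _ _ (Submodule.subset_span (by simp)))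
      · have h' := (hermForm_eq_zero_comm hF).1 h
        refine ⟨?_, ?_, ?_, ?_, ?_, ?_⟩
        · intro h0; exact ha (np_lin hu0 huv h0).1
        · simp only [hermForm_add_left, hermForm_smul_left, hu, h']; ring
        · simp only [hermForm_add_left, hermForm_smul_left, hv, h]; ring
        · simp only [hermForm_add_left, hermForm_smul_left, hermForm_add_right hF, hermForm_smul_right, hu, hv, h, h']
          ring
        · intro c hc
          have : (a - c) • u + b • v = 0 := by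
            rw [sub_smul]
            have : a • u - c • u + b • v = (a • u + b • v) - c • u := by abel
            rw [this, hc, sub_self]
          exact hb (np_lin hu0 huv this).2
        · intro c hc
          have : a • u + (b - c) • v = 0 := by
            rw [sub_smul]
            have : a • u + (b • v - c • v) = (a • u + b • v) - c • v := by abel
            rw [this, hc, sub_self]
          exact ha (np_lin hu0 huv this).1
  · rw [Finset.disjoint_left]
    intro w h3 h4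
    simp only [mem_filter, mem_univ, true_and] at h3 h4
    obtain ⟨a, b, ha, hb, rfl⟩ := h4
    exact h3.2.2 (Submodule.add_mem _ (Submodule.smul_mem _ _ (Submodule.subset_span (by simp)))
      (Submodule.smul_mem _ _ (Submodule.subset_span (by simp))))

/-- the isometric embedding given by an orthonormal family -/
def J {m : ℕ} (b : Fin m → Fin n → F) (x : Fin m → F) : Fin n → F := ∑ i, x i • b i

theorem J_form (hF : Fintype.card F = 2 ^ 2) {m : ℕ} {b : Fin m → Fin n → F} (hb : Uni.IsON 2 b) (x y : Fin m → F) :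
    hermForm n F 2 (J b x) (J b y) = hermForm m F 2 x y := by
  unfold J
  rw [hermForm_sum_left, hermForm_def]
  refine Finset.sum_congr rfl fun i _ => ?_
  rw [hermForm_smul_left]
  congr 1
  have : hermForm n F 2 (b i) (∑ j, y j • b j) = ∑ j, hermForm n F 2 (b i) (y j • b j) := by
    rw [← hermForm_symm hF, hermForm_sum_left]
    have key : ∀ (s : Finset (Fin m)) (f : Fin m → F), (∑ j ∈ s, f j) ^ 2 = ∑ j ∈ s, (f j) ^ 2 := by
      intro s f
      induction s using Finset.induction_on with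
      | empty => simp
      | insert a s ha ih =>
        rw [Finset.sum_insert ha, Finset.sum_insert ha, ← ih]
        have h2 := two_eq_zero' hF
        linear_combination (f a * ∑ j ∈ s, f j) * h2
    rw [key]
    refine Finset.sum_congr rfl fun j _ => ?_
    rw [hermForm_symm hF]
  rw [this, Finset.sum_eq_single i]
  · rw [hermForm_smul_right, hb, if_pos rfl, mul_one]
  · intro j _ hj
    rw [hermForm_smul_right, hb, if_neg (Ne.symm hj), mul_zero]
  · intro h; exact absurd (mem_univ i) h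

theorem J_inj (hF : Fintype.card F = 2 ^ 2) {m : ℕ} {b : Fin m → Fin n → F} (hb : Uni.IsON 2 b) :
    Function.Injective (J b) := by
  intro x y hxy
  have h1 := (Fintype.linearIndependent_iff.1 (hb.linearIndependent hF)) (x - y) (by
    have : ∑ i, (x - y) i • b i = J b x - J b y := by
      unfold J
      rw [← Finset.sum_sub_distrib]
      exact Finset.sum_congr rfl fun i _ => by rw [Pi.sub_apply, sub_smul]
    rw [this, hxy, sub_self])
  funext i
  exact sub_eq_zero.1 (h1 i)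

theorem J_range {m : ℕ} {b : Fin m → Fin n → F} {w : Fin n → F} :
    w ∈ Submodule.span F (Set.range b) ↔ ∃ x, J b x = w := by
  rw [Submodule.mem_span_range_iff_exists_fun]
  rfl

theorem J_smul {m : ℕ} (b : Fin m → Fin n → F) (c : F) (x : Fin m → F) : J b (c • x) = c • J b x := by
  unfold J
  rw [Finset.smul_sum]
  exact Finset.sum_congr rfl fun i _ => by rw [Pi.smul_apply, smul_eq_mul, mul_smul]

theorem J_zero {m : ℕ} (b : Fin m → Fin n → F) : J b (0 : Fin m → F) = 0 := by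
  simp [J]

/-- an orthonormal basis of the orthogonal space of two nonorthogonal isotropic vectors -/
theorem exists_perp_basis (hF : Fintype.card F = 2 ^ 2) {u v : Fin 6 → F} (hu : hermForm 6 F 2 u u = 0)
    (hv : hermForm 6 F 2 v v = 0) (huv : hermForm 6 F 2 u v ≠ 0) :
    ∃ b : Fin 4 → Fin 6 → F, Uni.IsON 2 b ∧ ∀ w, (hermForm 6 F 2 w u = 0 ∧ hermForm 6 F 2 w v = 0) ↔ ∃ x, J b x = w := by
  have ha3 : (hermForm 6 F 2 u v) ^ 3 = 1 := pow_three_eq_one hF huv
  set a := hermForm 6 F 2 u v with ha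
  have hyp : Hyp 2 u (a • v) := ⟨hu, herm_smul_self hv a, by
    rw [hermForm_smul_right, ← ha]; linear_combination ha3⟩
  have hnd := hyp.nd hF
  obtain ⟨b, hb, -, hspan⟩ := (hnd.perp hF).exists_ON hF 4 (hyp.finrank_perp hF)
  refine ⟨b, hb, fun w => ?_⟩
  rw [← J_range, hspan, Hyp.mem_perp_iff hF, hermForm_smul_right, mul_eq_zero, or_iff_right (pow_ne_zero _ huv)]

theorem card_hyp_perp (hF : Fintype.card F = 2 ^ 2) {u v : Fin 6 → F} (hu : hermForm 6 F 2 u u = 0)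
    (hv : hermForm 6 F 2 v v = 0) (huv : hermForm 6 F 2 u v ≠ 0) :
    Nat.card {w : Fin 6 → F // w ≠ 0 ∧ hermForm 6 F 2 w w = 0 ∧ hermForm 6 F 2 w u = 0 ∧ hermForm 6 F 2 w v = 0} =
      135 := by
  obtain ⟨b, hb, hw⟩ := exists_perp_basis hF hu hv huv
  rw [← cnt_four hF, ← card_all hF 4]
  symm
  refine Nat.card_congr (Equiv.ofBijective (fun x => ⟨J b x.1, ?_, ?_, (hw _).2 ⟨_, rfl⟩⟩) ⟨?_, ?_⟩)
  · rw [← J_zero b]
    exact fun h => x.2.1 (J_inj hF hb h)
  · rw [J_form hF hb]; exact x.2.2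
  · intro x y hxy
    exact Subtype.ext (J_inj hF hb (congrArg Subtype.val hxy))
  · rintro ⟨w, hw0, hww, hwu⟩
    obtain ⟨x, rfl⟩ := (hw w).1 hwu
    refine ⟨⟨x, ?_, ?_⟩, rfl⟩
    · rintro rfl; exact hw0 (J_zero b)
    · rw [← J_form hF hb]; exact hww

theorem card_hyp_perp_one (hF : Fintype.card F = 2 ^ 2) {u v z : Fin 6 → F} (hu : hermForm 6 F 2 u u = 0)
    (hv : hermForm 6 F 2 v v = 0) (huv : hermForm 6 F 2 u v ≠ 0) (hz0 : z ≠ 0) (hz : hermForm 6 F 2 z z = 0)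
    (hzu : hermForm 6 F 2 z u = 0) (hzv : hermForm 6 F 2 z v = 0) :
    Nat.card {w : Fin 6 → F // hermForm 6 F 2 w w = 0 ∧ hermForm 6 F 2 w u = 0 ∧ hermForm 6 F 2 w v = 0 ∧
      hermForm 6 F 2 w z = 0 ∧ ∀ c : F, w ≠ c • z} = 36 := by
  obtain ⟨b, hb, hw⟩ := exists_perp_basis hF hu hv huv
  obtain ⟨z', rfl⟩ := (hw z).1 ⟨hzu, hzv⟩
  have hz0' : z' ≠ 0 := by rintro rfl; exact hz0 (J_zero b)
  rw [J_form hF hb] at hz
  have h1 := card_perp_one hF (by norm_num) hz0' hz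
  rw [show 4 - 2 = 2 by norm_num, cnt_two hF] at h1
  rw [show 36 = 4 * 9 by norm_num, ← h1]
  symm
  refine Nat.card_congr (Equiv.ofBijective (fun x => ⟨J b x.1, ?_, ((hw _).2 ⟨_, rfl⟩).1, ((hw _).2 ⟨_, rfl⟩).2, ?_, ?_⟩)
    ⟨?_, ?_⟩)
  · rw [J_form hF hb]; exact x.2.2.1
  · rw [J_form hF hb]; exact x.2.1
  · intro c hc
    rw [← J_smul] at hc
    exact x.2.2.2 c (J_inj hF hb hc)
  · intro x y hxy
    exact Subtype.ext (J_inj hF hb (congrArg Subtype.val hxy))
  · rintro ⟨w, hww, hwu, hwv, hwz, hwc⟩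
    obtain ⟨x, rfl⟩ := (hw w).1 ⟨hwu, hwv⟩
    refine ⟨⟨x, ?_, ?_, ?_⟩, rfl⟩
    · rw [← J_form hF hb]; exact hwz
    · rw [← J_form hF hb]; exact hww
    · rintro c rfl; exact hwc c (J_smul b c z')

end vec

variable {G : Type*} [Group G] {D : Set G}

section fin

variable [Finite G]

/-- the members of `D` as a finite set -/
noncomputable def DF (D : Set G) : Finset G := (Set.toFinite D).toFinset

/-- `perp D x` as a finite set -/
noncomputable def NF (D : Set G) (x : G) : Finset G := (Set.toFinite (perp D x)).toFinset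

theorem mem_DF {x : G} : x ∈ DF D ↔ x ∈ D := Set.Finite.mem_toFinset _

theorem mem_NF {x y : G} : y ∈ NF D x ↔ y ∈ perp D x := Set.Finite.mem_toFinset _

theorem gr (D : Set G) : Comb.Gr (DF D) (NF D) where
  sub := fun x y hy => mem_DF.2 (mem_NF.1 hy).1
  irr := fun x hx => (mem_NF.1 hx).2.1 rfl
  symm := fun x hx y hy => mem_NF.2 (H22.perp_symm (mem_DF.1 hx) (mem_NF.1 hy))

end fin

/-- Three times the number of points is the number of vectors. -/
theorem Dict.card_pts {d : G} {F : Type} [Field F] [Fintype F] (Δ : Dict D d F) (S : Finset G)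
    (hS : ∀ y ∈ S, y ∈ perp D d) :
    3 * S.card = Nat.card {w : Fin 6 → F // w ≠ 0 ∧ hermForm 6 F 2 w w = 0 ∧ Δ.pt w ∈ S} := by
  classical
  have h3 : Nat.card {a : F // a ≠ 0} = 3 := by
    rw [Nat.card_eq_fintype_card, Fintype.card_subtype_compl, Fintype.card_subtype_eq, Δ.hF]; norm_num
  have h4 : S.card = Nat.card S := by simp
  rw [h4, ← h3, mul_comm, ← Nat.card_prod]
  refine Nat.card_congr (Equiv.ofBijective (fun p => ⟨p.2.1 • Δ.vec p.1.1, ?_, ?_, ?_⟩) ⟨?_, ?_⟩)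
  · exact smul_ne_zero p.2.2 (Δ.ne _ (hS _ p.1.2))
  · exact herm_smul_self (Δ.iso _ (hS _ p.1.2)) _
  · rw [Δ.pt_smul (Δ.ne _ (hS _ p.1.2)) (Δ.iso _ (hS _ p.1.2)) p.2.2, Δ.pt_vec_self (hS _ p.1.2)]
    exact p.1.2
  · rintro ⟨⟨y, hy⟩, ⟨c, hc⟩⟩ ⟨⟨y', hy'⟩, ⟨c', hc'⟩⟩ h
    have h1 := congrArg Subtype.val h
    simp only at h1
    have hyp := hS y hy
    have hyp' := hS y' hy'
    have h2 : y = y' := by
      apply Δ.inj y hyp y' hyp'
      refine ⟨c'⁻¹ * c, mul_ne_zero (inv_ne_zero hc') hc, ?_⟩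
      rw [← smul_smul, h1, smul_smul, inv_mul_cancel₀ hc', one_smul]
    subst h2
    have h5 : (c - c') • Δ.vec y = 0 := by rw [sub_smul, h1, sub_self]
    have h6 := sub_eq_zero.1 ((smul_eq_zero.1 h5).resolve_right (Δ.ne _ hyp))
    subst h6; rfl
  · rintro ⟨w, hw0, hw, hwS⟩
    obtain ⟨c, hc, h1⟩ := Δ.pt_vec hw0 hw
    refine ⟨⟨⟨_, hwS⟩, ⟨c⁻¹, inv_ne_zero hc⟩⟩, ?_⟩
    apply Subtype.ext
    simp only
    rw [h1, smul_smul, inv_mul_cancel₀ hc, one_smul]

namespace H22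

variable [Finite G] (h : H22 D)

include h

open Classical in
theorem par : Comb.Par (DF D) (NF D) 693 180 51 45 12 where
  toGr := gr D
  c1 := by
    intro x hx
    rw [mem_DF] at hx
    obtain ⟨F, i1, i2, ⟨Δ⟩⟩ := h.dict hx
    have h1 := Δ.card_pts (NF D x) (fun y hy => mem_NF.1 hy)
    have h2 : Nat.card {w : Fin 6 → F // w ≠ 0 ∧ hermForm 6 F 2 w w = 0 ∧ Δ.pt w ∈ NF D x} = 2079 := by
      rw [← cnt_six Δ.hF, ← card_all Δ.hF]
      refine Nat.card_congr (Equiv.subtypeEquivRight fun w => ?_)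
      exact ⟨fun hh => ⟨hh.1, hh.2.1⟩, fun hh => ⟨hh.1, hh.2, mem_NF.2 (Δ.pt_mem hh.1 hh.2)⟩⟩
    omega
  c2 := by
    intro x hx y hy
    rw [mem_DF] at hx
    rw [mem_NF] at hy
    obtain ⟨F, i1, i2, ⟨Δ⟩⟩ := h.dict hx
    have hF := Δ.hF
    obtain ⟨u, hu0, hu, rfl⟩ := Δ.exists_pt hy
    have h1 := Δ.card_pts (NF D x ∩ NF D (Δ.pt u)) (fun y hy => mem_NF.1 (mem_inter.1 hy).1)
    have h2 : Nat.card {w : Fin 6 → F // w ≠ 0 ∧ hermForm 6 F 2 w w = 0 ∧ Δ.pt w ∈ NF D x ∩ NF D (Δ.pt u)} = 540 := by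
      have h3 := card_perp_one hF (by norm_num) hu0 hu
      rw [show 6 - 2 = 4 by norm_num, cnt_four hF] at h3
      rw [show 540 = 4 * 135 by norm_num, ← h3]
      refine Nat.card_congr (Equiv.subtypeEquivRight fun w => ?_)
      rw [mem_inter, mem_NF, mem_NF]
      constructor
      · rintro ⟨hw0, hw, h4, h5⟩
        refine ⟨(hermForm_eq_zero_comm hF).1 ((Δ.commute_pt hu0 hu hw0 hw).1 h5.2.2), hw, ?_⟩
        exact (Δ.pt_ne_iff hu0 hu hw0 hw).1 h5.2.1.symm
      · rintro ⟨h4, h5, h6⟩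
        have hw0 : w ≠ 0 := by rintro rfl; exact h6 0 (by rw [zero_smul])
        have h7 := Δ.pt_mem hw0 h5
        exact ⟨hw0, h5, h7, h7.1, ((Δ.pt_ne_iff hu0 hu hw0 h5).2 h6).symm,
          (Δ.commute_pt hu0 hu hw0 h5).2 ((hermForm_eq_zero_comm hF).1 h4)⟩
    omega
  c3 := by
    intro x hx y hy z hz hyz
    rw [mem_DF] at hx
    rw [mem_NF] at hy hz hyz
    obtain ⟨F, i1, i2, ⟨Δ⟩⟩ := h.dict hx
    have hF := Δ.hF
    obtain ⟨u, hu0, hu, rfl⟩ := Δ.exists_pt hy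
    obtain ⟨v, hv0, hv, rfl⟩ := Δ.exists_pt hz
    have huv := (Δ.commute_pt hu0 hu hv0 hv).1 hyz.2.2
    have hnp := (Δ.pt_ne_iff hu0 hu hv0 hv).1 hyz.2.1.symm
    have h1 := Δ.card_pts (NF D x ∩ NF D (Δ.pt u) ∩ NF D (Δ.pt v)) (fun y hy => mem_NF.1 (mem_inter.1 (mem_inter.1 hy).1).1)
    have h2 : Nat.card {w : Fin 6 → F // w ≠ 0 ∧ hermForm 6 F 2 w w = 0 ∧
        Δ.pt w ∈ NF D x ∩ NF D (Δ.pt u) ∩ NF D (Δ.pt v)} = 153 := by
      have h3 := card_perp_two hF (by norm_num) hu0 hv0 hnp hu hv huv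
      rw [show 6 - 4 = 2 by norm_num, cnt_two hF] at h3
      rw [show 153 = 16 * 9 + 9 by norm_num, ← h3]
      refine Nat.card_congr (Equiv.subtypeEquivRight fun w => ?_)
      rw [mem_inter, mem_inter, mem_NF, mem_NF, mem_NF]
      constructor
      · rintro ⟨hw0, hw, ⟨h4, h5⟩, h6⟩
        exact ⟨hw0, (hermForm_eq_zero_comm hF).1 ((Δ.commute_pt hu0 hu hw0 hw).1 h5.2.2),
          (hermForm_eq_zero_comm hF).1 ((Δ.commute_pt hv0 hv hw0 hw).1 h6.2.2), hw,
          (Δ.pt_ne_iff hu0 hu hw0 hw).1 h5.2.1.symm, (Δ.pt_ne_iff hv0 hv hw0 hw).1 h6.2.1.symm⟩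
      · rintro ⟨hw0, h4, h5, hw, h6, h7⟩
        have h8 := Δ.pt_mem hw0 hw
        exact ⟨hw0, hw, ⟨h8, h8.1, ((Δ.pt_ne_iff hu0 hu hw0 hw).2 h6).symm,
          (Δ.commute_pt hu0 hu hw0 hw).2 ((hermForm_eq_zero_comm hF).1 h4)⟩, h8.1,
          ((Δ.pt_ne_iff hv0 hv hw0 hw).2 h7).symm, (Δ.commute_pt hv0 hv hw0 hw).2 ((hermForm_eq_zero_comm hF).1 h5)⟩
    omega
  m1 := by
    intro x hx y hy z hz hne hyz
    rw [mem_DF] at hx
    rw [mem_NF] at hy hz hyz
    have hnc : ¬ Commute y z := fun hh => hyz ⟨hz.1, hne.symm, hh⟩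
    obtain ⟨F, i1, i2, ⟨Δ⟩⟩ := h.dict hx
    have hF := Δ.hF
    obtain ⟨u, hu0, hu, rfl⟩ := Δ.exists_pt hy
    obtain ⟨v, hv0, hv, rfl⟩ := Δ.exists_pt hz
    have huv : hermForm 6 F 2 u v ≠ 0 := fun hh => hnc ((Δ.commute_pt hu0 hu hv0 hv).2 hh)
    have h1 := Δ.card_pts (NF D x ∩ NF D (Δ.pt u) ∩ NF D (Δ.pt v)) (fun y hy => mem_NF.1 (mem_inter.1 (mem_inter.1 hy).1).1)
    have h2 : Nat.card {w : Fin 6 → F // w ≠ 0 ∧ hermForm 6 F 2 w w = 0 ∧
        Δ.pt w ∈ NF D x ∩ NF D (Δ.pt u) ∩ NF D (Δ.pt v)} = 135 := by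
      rw [← card_hyp_perp hF hu hv huv]
      refine Nat.card_congr (Equiv.subtypeEquivRight fun w => ?_)
      rw [mem_inter, mem_inter, mem_NF, mem_NF, mem_NF]
      constructor
      · rintro ⟨hw0, hw, ⟨h4, h5⟩, h6⟩
        exact ⟨hw0, hw, (hermForm_eq_zero_comm hF).1 ((Δ.commute_pt hu0 hu hw0 hw).1 h5.2.2),
          (hermForm_eq_zero_comm hF).1 ((Δ.commute_pt hv0 hv hw0 hw).1 h6.2.2)⟩
      · rintro ⟨hw0, hw, h4, h5⟩
        have h8 := Δ.pt_mem hw0 hw
        have hcu := (Δ.commute_pt hu0 hu hw0 hw).2 ((hermForm_eq_zero_comm hF).1 h4)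
        have hcv := (Δ.commute_pt hv0 hv hw0 hw).2 ((hermForm_eq_zero_comm hF).1 h5)
        refine ⟨hw0, hw, ⟨h8, h8.1, ?_, hcu⟩, h8.1, ?_, hcv⟩
        · intro he; rw [he] at hcv; exact hnc hcv.symm
        · intro he; rw [he] at hcu; exact hnc hcu
    omega
  m2 := by
    intro x hx x' hx' y hy hyx' z hz hzx' hne hyz
    rw [mem_DF] at hx
    rw [mem_NF] at hy hz hyz hx' hyx' hzx'
    have hnc : ¬ Commute y z := fun hh => hyz ⟨hz.1, hne.symm, hh⟩
    obtain ⟨F, i1, i2, ⟨Δ⟩⟩ := h.dict hx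
    have hF := Δ.hF
    obtain ⟨u, hu0, hu, rfl⟩ := Δ.exists_pt hy
    obtain ⟨v, hv0, hv, rfl⟩ := Δ.exists_pt hz
    obtain ⟨t, ht0, ht, rfl⟩ := Δ.exists_pt hx'
    have huv : hermForm 6 F 2 u v ≠ 0 := fun hh => hnc ((Δ.commute_pt hu0 hu hv0 hv).2 hh)
    have htu := (Δ.commute_pt ht0 ht hu0 hu).1 hyx'.2.2
    have htv := (Δ.commute_pt ht0 ht hv0 hv).1 hzx'.2.2
    have h1 := Δ.card_pts (NF D x ∩ NF D (Δ.pt t) ∩ (NF D (Δ.pt u) ∩ NF D (Δ.pt v)))
      (fun y hy => mem_NF.1 (mem_inter.1 (mem_inter.1 hy).1).1)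
    have h2 : Nat.card {w : Fin 6 → F // w ≠ 0 ∧ hermForm 6 F 2 w w = 0 ∧
        Δ.pt w ∈ NF D x ∩ NF D (Δ.pt t) ∩ (NF D (Δ.pt u) ∩ NF D (Δ.pt v))} = 36 := by
      rw [← card_hyp_perp_one hF hu hv huv ht0 ht htu htv]
      refine Nat.card_congr (Equiv.subtypeEquivRight fun w => ?_)
      rw [mem_inter, mem_inter, mem_inter, mem_NF, mem_NF, mem_NF, mem_NF]
      constructor
      · rintro ⟨hw0, hw, ⟨h4, h7⟩, h5, h6⟩
        exact ⟨hw, (hermForm_eq_zero_comm hF).1 ((Δ.commute_pt hu0 hu hw0 hw).1 h5.2.2),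
          (hermForm_eq_zero_comm hF).1 ((Δ.commute_pt hv0 hv hw0 hw).1 h6.2.2),
          (hermForm_eq_zero_comm hF).1 ((Δ.commute_pt ht0 ht hw0 hw).1 h7.2.2),
          (Δ.pt_ne_iff ht0 ht hw0 hw).1 h7.2.1.symm⟩
      · rintro ⟨hw, h4, h5, h6, h7⟩
        have hw0 : w ≠ 0 := by rintro rfl; exact h7 0 (by rw [zero_smul])
        have h8 := Δ.pt_mem hw0 hw
        have hcu := (Δ.commute_pt hu0 hu hw0 hw).2 ((hermForm_eq_zero_comm hF).1 h4)
        have hcv := (Δ.commute_pt hv0 hv hw0 hw).2 ((hermForm_eq_zero_comm hF).1 h5)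
        have hct := (Δ.commute_pt ht0 ht hw0 hw).2 ((hermForm_eq_zero_comm hF).1 h6)
        refine ⟨hw0, hw, ⟨h8, h8.1, ((Δ.pt_ne_iff ht0 ht hw0 hw).2 h7).symm, hct⟩, ⟨h8.1, ?_, hcu⟩, h8.1, ?_, hcv⟩
        · intro he; rw [he] at hcv; exact hnc hcv.symm
        · intro he; rw [he] at hcu; exact hnc hcu
    omega

end H22

end Cfsg.Agent.FW
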