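import Cfsg.Agent.FW.Hexad2
import Cfsg.Agent.ThreeTrans.Prim

/-!
# Factorisations into two or three commuting members of a class of type M(22)
-/

set_option autoImplicit false
set_option linter.unusedSectionVars false

namespace Cfsg.Agent.FW

open Cfsg.Agent.Fi22

open Finset Matrix Module Cfsg.Agent.Uni Cfsg.Agent.ThreeTransp

variable {G : Type*} [Group G] {D : Set G}

theorem fact_cons {m : ℕ} {j x : G} {l : List G} (h : IsFact D m j l) (hx : x ∈ l) :
    ∃ t : List G, IsFact D m j (x :: t) ∧ ∀ y, y ∈ x :: t ↔ y ∈ l := by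
  classical
  have hp := List.perm_cons_erase hx
  refine ⟨l.erase x, ⟨hp.nodup_iff.1 h.1, by rw [← hp.length_eq]; exact h.2.1,
    fun a ha => h.2.2.1 a (hp.mem_iff.2 ha),
    fun a ha b hb => h.2.2.2.1 a (hp.mem_iff.2 ha) b (hp.mem_iff.2 hb), ?_⟩, fun y => (hp.mem_iff (a := y)).symm⟩
  have h5 := h.2.2.2.2
  rw [← h5]
  symm
  apply hp.prod_eq'
  rw [List.pairwise_iff_forall_sublist]
  intro a b hab
  exact h.2.2.2.1 a (hab.subset (by simp)) b (hab.subset (by simp))

theorem fact_tail {m : ℕ} {j x : G} {l : List G} (h : IsFact D (m + 1) j (x :: l)) : IsFact D m (x⁻¹ * j) l := by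
  refine ⟨(List.nodup_cons.1 h.1).2, by have := h.2.1; simpa using this, fun a ha => h.2.2.1 a (by simp [ha]),
    fun a ha b hb => h.2.2.2.1 a (by simp [ha]) b (by simp [hb]), ?_⟩
  have := h.2.2.2.2
  rw [List.prod_cons] at this
  rw [← this, inv_mul_cancel_left]

namespace H22

theorem of_primitive (hD : Cfsg.IsThreeTranspositionGroup D) (hprim : Cfsg.IsPrimitiveUnderConj D)
    [Finite G] (h22 : T22 G D) : H22 D where
  cls := ThreeTrans.class_of_primitive hD hprim
  irr := irred_of_primitive (ThreeTrans.class_of_primitive hD hprim) hprim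
  typ := h22
  conn := by
    have hcls := ThreeTrans.class_of_primitive hD hprim
    apply ThreeTrans.connected_of_primitive hD.2.1 hprim
    obtain ⟨d, hd, -⟩ := h22.2
    obtain ⟨a, ha, -⟩ := perp_nc hcls h22 hd
    exact ⟨d, hd, a, ha.1, ha.2.1.symm, ha.2.2⟩

variable [Finite G] (h : H22 D)

include h

theorem fhyp : FHyp D where
  cls := h.cls
  irr := h.irr
  nc := fun _ hd => h.exists_nc' hd
  core := by
    intro d hd
    obtain ⟨F, i1, i2, hF, he⟩ := exists_equiv h.cls h.typ
    obtain ⟨e⟩ := he d hd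
    have : Fact (Nat.Prime 2) := ⟨Nat.prime_two⟩
    exact core_le_center_of_quot_equiv_simple e (psu6_simple hF) (psu6_noncomm hF)

theorem fact_two {j : G} {l l' : List G} (hl : IsFact D 2 j l) (hl' : IsFact D 2 j l') (x : G) :
    x ∈ l → x ∈ l' := by
  obtain ⟨h1, h2, h3, h4, h5⟩ := hl
  obtain ⟨h1', h2', h3', h4', h5'⟩ := hl'
  obtain ⟨a, b, rfl⟩ := List.length_eq_two.1 h2
  obtain ⟨a', b', rfl⟩ := List.length_eq_two.1 h2'
  have hab : a ≠ b := by simpa using h1
  have hab' : a' ≠ b' := by simpa using h1'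
  have cab := h4 a (by simp) b (by simp)
  have cab' := h4' a' (by simp) b' (by simp)
  simp only [List.prod_cons, List.prod_nil, mul_one] at h5 h5'
  have k1 := h.fhyp.pair (h3 a (by simp)) (h3 b (by simp)) (h3' a' (by simp)) (h3' b' (by simp)) hab hab' cab cab'
    (h5.trans h5'.symm)
  have k2 := h.fhyp.pair (h3 b (by simp)) (h3 a (by simp)) (h3' a' (by simp)) (h3' b' (by simp)) hab.symm hab'
    cab.symm cab' (cab.eq.symm.trans (h5.trans h5'.symm))
  simp only [List.mem_cons, List.not_mem_nil, or_false]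
  rintro (rfl | rfl)
  · exact k1
  · exact k2

theorem fact_meet {j x : G} {l l' : List G} (hl : IsFact D 3 j l) (hl' : IsFact D 3 j l') (hx : x ∈ l) (hx' : x ∈ l')
    (y : G) : y ∈ l ↔ y ∈ l' := by
  obtain ⟨t, ht, h1⟩ := fact_cons hl hx
  obtain ⟨t', ht', h1'⟩ := fact_cons hl' hx'
  have h2 := h.fact_two (fact_tail ht) (fact_tail ht') y
  have h3 := h.fact_two (fact_tail ht') (fact_tail ht) y
  rw [← h1, ← h1', List.mem_cons, List.mem_cons]
  tauto

theorem fact_three {j : G} {l₀ : List G} (hl₀ : IsFact D 3 j l₀) : ∃ l₁ l₂ : List G, IsFact D 3 j l₁ ∧ IsFact D 3 j l₂ ∧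
    ¬ (∀ x : G, x ∈ l₁ ↔ x ∈ l₂) ∧
    ∀ l : List G, IsFact D 3 j l → ((∀ x : G, x ∈ l ↔ x ∈ l₁) ∨ (∀ x : G, x ∈ l ↔ x ∈ l₂)) := by
  have hl₀' := hl₀
  obtain ⟨h1, h2, h3, h4, h5⟩ := hl₀
  obtain ⟨a, b, c, rfl⟩ := List.length_eq_three.1 h2
  simp only [List.nodup_cons, List.mem_cons, List.not_mem_nil, or_false, not_or, List.nodup_nil, and_true,
    not_false_eq_true] at h1
  obtain ⟨⟨hab, hac⟩, hbc⟩ := h1
  have ha := h3 a (by simp)
  have hb := h3 b (by simp)
  have hc := h3 c (by simp)
  have cab := h4 a (by simp) b (by simp)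
  have cac := h4 a (by simp) c (by simp)
  have cbc := h4 b (by simp) c (by simp)
  simp only [List.prod_cons, List.prod_nil, mul_one] at h5
  obtain ⟨y3, y4, y5, hhex, huniq⟩ := h.exists_hexad ha (b := b) (c := c) ⟨hb, Ne.symm hab, cab⟩ ⟨hc, Ne.symm hac, cac⟩
    hbc cbc
  have hjj : j * j = 1 := by
    have e1 := mul_self h.cls.1 ha
    have e2 := mul_self h.cls.1 hb
    have e3 := mul_self h.cls.1 hc
    have c1 : Commute (b * c) a := (cab.symm).mul_left cac.symm
    calc j * j = a * (b * c) * (a * (b * c)) := by rw [← h5]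
      _ = (a * a) * ((b * c) * (b * c)) := by rw [mul_assoc a (b * c), ← mul_assoc (b * c) a, c1.eq]; simp only [mul_assoc]
      _ = (a * a) * ((b * b) * (c * c)) := by
        rw [mul_assoc b c, ← mul_assoc c b, ← cbc.eq]; simp only [mul_assoc]
      _ = 1 := by rw [e1, e2, e3]; simp
  have hprod := hhex.prod
  simp only [List.prod_cons, List.prod_nil, mul_one] at hprod
  have hnd := hhex.nodup
  simp only [List.nodup_cons, List.mem_cons, List.not_mem_nil, or_false, not_or, List.nodup_nil, and_true,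
    not_false_eq_true] at hnd
  obtain ⟨⟨-, -, ha3, ha4, ha5⟩, ⟨-, hb3, hb4, hb5⟩, ⟨hc3, hc4, hc5⟩, ⟨h34, h35⟩, h45⟩ := hnd
  have hj2 : y3 * (y4 * y5) = j := by
    have : j * (y3 * (y4 * y5)) = 1 := by rw [← h5]; simpa only [mul_assoc] using hprod
    have h6 := eq_inv_of_mul_eq_one_right this
    rw [h6]; exact inv_eq_of_mul_eq_one_left hjj
  have hl2 : IsFact D 3 j [y3, y4, y5] := by
    refine ⟨?_, rfl, fun z hz => hhex.mem z (by simp at hz; simp [hz]), fun z hz w hw =>
      hhex.comm z (by simp at hz; simp [hz]) w (by simp at hw; simp [hw]), ?_⟩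
    · simp only [List.nodup_cons, List.mem_cons, List.not_mem_nil, or_false, not_or, List.nodup_nil, and_true,
        not_false_eq_true]
      exact ⟨⟨h34, h35⟩, h45⟩
    · simp only [List.prod_cons, List.prod_nil, mul_one]
      exact hj2
  refine ⟨[a, b, c], [y3, y4, y5], hl₀', hl2, ?_, ?_⟩
  · intro hcon
    have := (hcon y3).2 (by simp)
    simp only [List.mem_cons, List.not_mem_nil, or_false] at this
    rcases this with h6 | h6 | h6
    · exact ha3 h6.symm
    · exact hb3 h6.symm
    · exact hc3 h6.symm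
  · intro l hl
    by_cases hmeet : ∃ x ∈ l, x ∈ [a, b, c]
    · obtain ⟨x, hx, hx'⟩ := hmeet
      left
      exact h.fact_meet hl hl₀' hx hx'
    · push Not at hmeet
      right
      have hl' := hl
      obtain ⟨g1, g2, g3, g4, g5⟩ := hl
      obtain ⟨p, q, r, rfl⟩ := List.length_eq_three.1 g2
      simp only [List.nodup_cons, List.mem_cons, List.not_mem_nil, or_false, not_or, List.nodup_nil, and_true,
        not_false_eq_true] at g1
      obtain ⟨⟨hpq, hpr⟩, hqr⟩ := g1
      simp only [List.prod_cons, List.prod_nil, mul_one] at g5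
      have hcm : ∀ z ∈ [p, q, r], Commute z a ∧ Commute z b ∧ Commute z c := by
        intro z hz
        apply (commute_mul_three_iff h.cls.1 ha hb hc (g3 z hz) hab hac hbc cab cac cbc).1
        rw [mul_assoc, h5, ← g5]
        exact (g4 z hz p (by simp)).mul_right ((g4 z hz q (by simp)).mul_right (g4 z hz r (by simp)))
      have hcp := hcm p (by simp)
      have hcq := hcm q (by simp)
      have hcr := hcm r (by simp)
      have hnp := hmeet p (by simp)
      have hnq := hmeet q (by simp)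
      have hnr := hmeet r (by simp)
      simp only [List.mem_cons, List.not_mem_nil, or_false, not_or] at hnp hnq hnr
      have hhex2 : IsHexad D [a, b, c, p, q, r] := by
        refine ⟨?_, rfl, ?_, ?_, ?_⟩
        · simp only [List.nodup_cons, List.mem_cons, List.not_mem_nil, or_false, not_or, List.nodup_nil, and_true,
            not_false_eq_true]
          exact ⟨⟨hab, hac, Ne.symm hnp.1, Ne.symm hnq.1, Ne.symm hnr.1⟩, ⟨hbc, Ne.symm hnp.2.1, Ne.symm hnq.2.1,
            Ne.symm hnr.2.1⟩, ⟨Ne.symm hnp.2.2, Ne.symm hnq.2.2, Ne.symm hnr.2.2⟩, ⟨hpq, hpr⟩, hqr⟩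
        · simp only [List.mem_cons, List.not_mem_nil, or_false, forall_eq_or_imp, forall_eq]
          exact ⟨ha, hb, hc, g3 p (by simp), g3 q (by simp), g3 r (by simp)⟩
        · have cpq := g4 p (by simp) q (by simp)
          have cpr := g4 p (by simp) r (by simp)
          have cqr := g4 q (by simp) r (by simp)
          simp only [List.mem_cons, List.not_mem_nil, or_false, forall_eq_or_imp, forall_eq]
          exact ⟨⟨Commute.refl _, cab, cac, hcp.1.symm, hcq.1.symm, hcr.1.symm⟩,
            ⟨cab.symm, Commute.refl _, cbc, hcp.2.1.symm, hcq.2.1.symm, hcr.2.1.symm⟩,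
            ⟨cac.symm, cbc.symm, Commute.refl _, hcp.2.2.symm, hcq.2.2.symm, hcr.2.2.symm⟩,
            ⟨hcp.1, hcp.2.1, hcp.2.2, Commute.refl _, cpq, cpr⟩,
            ⟨hcq.1, hcq.2.1, hcq.2.2, cpq.symm, Commute.refl _, cqr⟩,
            ⟨hcr.1, hcr.2.1, hcr.2.2, cpr.symm, cqr.symm, Commute.refl _⟩⟩
        · simp only [List.prod_cons, List.prod_nil, mul_one]
          rw [← mul_assoc b c, ← mul_assoc a (b * c), h5, g5, hjj]
      have hmem : p ∈ [y3, y4, y5] := by
        simpa using huniq p q r hhex2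
      exact h.fact_meet hl' hl2 (by simp) hmem

end H22

end Cfsg.Agent.FW
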