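import Cfsg.Agent.Fi22.Far
import Cfsg.Agent.FW.CoEx2

/-!
# A transposition far from `i` commuting with prescribed ones
-/

set_option autoImplicit false
set_option maxHeartbeats 1600000
set_option linter.unusedSectionVars false

namespace Cfsg.Agent.FW

open Cfsg.Agent.Fi22

open Finset Matrix Module Cfsg.Agent.Uni Cfsg.Agent.ThreeTransp

open C6



variable {G : Type*} [Group G] {D : Set G}

namespace H22

variable [Finite G] (h : H22 D)

include h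

/-- the hexads of commuting members meet -/
theorem meets {e : G} (he : e ∈ D) {i p a c s t : G} (hL : IsFact D 6 1 [i, p, a, c, s, t])
    (hLp : ∀ x ∈ [i, p, a, c, s, t], x ∈ perp D e) {z f : G} (hz : z ∈ perp D e) (hf : f ∈ D)
    (hfL : ∀ x ∈ [i, p, a, c, s, t], Commute f x) (hfz : Commute f z) (hfe : ¬ Commute f e) :
    ∃ x ∈ [i, p, a, c, s, t], Commute z x := by
  by_contra hcon
  push Not at hcon
  obtain ⟨C, c0, c1, c2, c3, c45⟩ := h.exists_co he hL hLp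
  obtain ⟨ζ, hζ, rfl⟩ := C.surj z hz
  have i0 : E0.iso = true := by decide
  have i1 : E1.iso = true := by decide
  have i2 : E2.iso = true := by decide
  have i3 : E3.iso = true := by decide
  have i4 : E4.iso = true := by decide
  have i5 : E5.iso = true := by decide
  have k0 : ζ.fm E0 ≠ .z := fun h1 => hcon i (by simp) (by rw [← c0]; exact (C.comm _ _ hζ i0).2 h1)
  have k1 : ζ.fm E1 ≠ .z := fun h1 => hcon p (by simp) (by rw [← c1]; exact (C.comm _ _ hζ i1).2 h1)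
  have k2 : ζ.fm E2 ≠ .z := fun h1 => hcon a (by simp) (by rw [← c2]; exact (C.comm _ _ hζ i2).2 h1)
  have k3 : ζ.fm E3 ≠ .z := fun h1 => hcon c (by simp) (by rw [← c3]; exact (C.comm _ _ hζ i3).2 h1)
  have n4 : ¬ Commute (C.P ζ) (C.P E4) := by
    rcases c45 with ⟨h4, h5⟩ | ⟨h4, h5⟩ <;> rw [h4] <;> exact hcon _ (by simp)
  have n5 : ¬ Commute (C.P ζ) (C.P E5) := by
    rcases c45 with ⟨h4, h5⟩ | ⟨h4, h5⟩ <;> rw [h5] <;> exact hcon _ (by simp)
  have k4 : ζ.fm E4 ≠ .z := fun h1 => n4 ((C.comm _ _ hζ i4).2 h1)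
  have k5 : ζ.fm E5 ≠ .z := fun h1 => n5 ((C.comm _ _ hζ i5).2 h1)
  have f0 : Commute f (C.P E0) := by rw [c0]; exact hfL _ (by simp)
  have f1 : Commute f (C.P E1) := by rw [c1]; exact hfL _ (by simp)
  have f2 : Commute f (C.P E2) := by rw [c2]; exact hfL _ (by simp)
  have f3 : Commute f (C.P E3) := by rw [c3]; exact hfL _ (by simp)
  have f4 : Commute f (C.P E4) := by
    rcases c45 with ⟨h4, h5⟩ | ⟨h4, h5⟩ <;> rw [h4] <;> exact hfL _ (by simp)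
  have f5 : Commute f (C.P E5) := by
    rcases c45 with ⟨h4, h5⟩ | ⟨h4, h5⟩ <;> rw [h5] <;> exact hfL _ (by simp)
  -- the special point
  obtain ⟨a', b', c', x, y, t'⟩ := ζ
  have e : ∀ k : K4, K4.mul k K4.z = K4.z := by decide
  have e0 : ∀ k : K4, K4.mul K4.z k = K4.z := by decide
  have e1 : ∀ k : K4, K4.mul k K4.o = k := by decide
  have e2 : ∀ k : K4, K4.add k K4.z = k := by decide
  have e3 : ∀ k : K4, K4.add K4.z k = k := by decide
  have q0 : fm ⟨a', b', c', x, y, t'⟩ E0 = x := by simp only [fm, E0, K4.sq, e, e1, e2, e3]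
  have q1 : fm ⟨a', b', c', x, y, t'⟩ E1 = y := by simp only [fm, E1, K4.sq, e, e1, e2, e3]
  have q2 : fm ⟨a', b', c', x, y, t'⟩ E2 = t' := by simp only [fm, E2, K4.sq, e, e1, e2, e3]
  have q3 : fm ⟨a', b', c', x, y, t'⟩ E3 = (x.add y).add t' := by simp only [fm, E3, K4.sq, e, e1, e2, e3]
  have q4 : fm ⟨a', b', c', x, y, t'⟩ E4 = (x.add (y.mul .v)).add (t'.mul .w) := by
    simp only [fm, E4, K4.sq, e, e1, e2, e3]; rfl
  have q5 : fm ⟨a', b', c', x, y, t'⟩ E5 = (x.add (y.mul .w)).add (t'.mul .v) := by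
    simp only [fm, E5, K4.sq, e, e1, e2, e3]; rfl
  rw [q0] at k0
  rw [q1] at k1
  rw [q2] at k2
  rw [q3] at k3
  rw [q4] at k4
  rw [q5] at k5
  have key1 : ∀ a b c x y t : K4, x ≠ .z → y ≠ .z → t ≠ .z →
      iso ⟨x, y, t, .z, .z, .z⟩ = true ∧ fm ⟨a, b, c, x, y, t⟩ ⟨x, y, t, .z, .z, .z⟩ = .o ∧
      cj (cj (cj ⟨a, b, c, x, y, t⟩ E0) E1) E2 = cj ⟨a, b, c, x, y, t⟩ ⟨x, y, t, .z, .z, .z⟩ ∧
      (iso ⟨a, b, c, x, y, t⟩ = true → iso (cj ⟨a, b, c, x, y, t⟩ E0) = true ∧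
        iso (cj (cj ⟨a, b, c, x, y, t⟩ E0) E1) = true) := by decide +kernel
  have key2 : ∀ x y t : K4, x ≠ .z → y ≠ .z → t ≠ .z → (x.add y).add t ≠ .z → (x.add (y.mul .v)).add (t.mul .w) ≠ .z →
      (x.add (y.mul .w)).add (t.mul .v) ≠ .z → ∃ r k : K4, r ≠ .z ∧ k ≠ .z ∧ iso (sm r ⟨x, y, t, .z, .z, .z⟩) = true ∧
      fm (sm r ⟨x, y, t, .z, .z, .z⟩) E0 = .z ∧ np (sm r ⟨x, y, t, .z, .z, .z⟩) E0 = true ∧
      ((sm r ⟨x, y, t, .z, .z, .z⟩).add (E0.sm k) = E3 ∨ (sm r ⟨x, y, t, .z, .z, .z⟩).add (E0.sm k) = E4 ∨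
        (sm r ⟨x, y, t, .z, .z, .z⟩).add (E0.sm k) = E5) := by decide +kernel
  obtain ⟨j1, j2, j3, j4⟩ := key1 a' b' c' x y t' k0 k1 k2
  obtain ⟨j5, j6⟩ := j4 hζ
  obtain ⟨r, k, hr, hk, j7, j8, j9, j10⟩ := key2 x y t' k0 k1 k2 k3 k4 k5
  set ζ : C6 := ⟨a', b', c', x, y, t'⟩ with hζ'
  set X : C6 := ⟨x, y, t', .z, .z, .z⟩ with hX
  have m1 := C.clos h hf hζ i0 hfz f0
  have m2 := C.clos h hf j5 i1 m1 f1
  have m3 := C.clos h hf j6 i2 m2 f2
  rw [j3, ← C.conj _ _ hζ j1] at m3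
  have hnc : ¬ Commute (C.P ζ) (C.P X) := by
    rw [C.comm _ _ hζ j1, j2]; decide
  have fX : Commute f (C.P X) := by
    have h1 := third h.cls.1 (C.mem _ j1).1 (C.mem _ hζ).1 (fun h1 => hnc h1.symm)
    rw [h1] at m3
    have h2 : C.P X = (C.P ζ)⁻¹ * (C.P ζ * C.P X * (C.P ζ)⁻¹) * C.P ζ := by group
    rw [h2]
    exact (hfz.inv_right.mul_right m3).mul_right hfz
  have fX' : Commute f (C.P (sm r X)) := by rw [C.smul r X hr j1]; exact fX
  have := C.three h hf hfe j7 i0 j8 j9 fX' f0 hk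
  rcases j10 with j | j | j
  · rw [j] at this; exact this f3
  · rw [j] at this; exact this f4
  · rw [j] at this; exact this f5

end H22

end Cfsg.Agent.FW
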