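import Cfsg.Agent.Fi22.FarEx
import Cfsg.Agent.FW.Far

/-!
# Existence of a transposition far from `i` commuting with prescribed ones
-/

set_option autoImplicit false
set_option maxHeartbeats 1600000
set_option linter.unusedSectionVars false

namespace Cfsg.Agent.FW

open Cfsg.Agent.Fi22

open Finset Matrix Module Cfsg.Agent.Uni Cfsg.Agent.ThreeTransp

open C6

theorem ind_le_two {p q r s : Prop} [Decidable p] [Decidable q] [Decidable r] [Decidable s] (h1 : ¬ (p ∧ q ∧ r))
    (h2 : ¬ (p ∧ q ∧ s)) (h3 : ¬ (p ∧ r ∧ s)) (h4 : ¬ (q ∧ r ∧ s)) :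
    (if p then 1 else 0) + (if q then 1 else 0) + (if r then 1 else 0) + (if s then 1 else 0) ≤ 2 := by
  by_cases hp : p <;> by_cases hq : q <;> by_cases hr : r <;> by_cases hs : s <;> simp_all

variable {G : Type*} [Group G] {D : Set G}

namespace H22

variable [Finite G] (h : H22 D)

include h

/-- a member far from `i` and commuting with six members around `i` -/
theorem exists_far {i : G} (hi : i ∈ D) (C : Co D i)
    (hl : IsFact D 6 1 [C.P E0, C.P E1, C.P E2, C.P E3, C.P E4, C.P E5]) :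
    ∃ x ∈ D, ¬ Commute x i ∧ Commute x (C.P E0) ∧ Commute x (C.P E1) ∧ Commute x (C.P E2) ∧ Commute x (C.P E3) ∧
      Commute x (C.P B1) ∧ Commute x (C.P B2) := by
  classical
  have iE0 : E0.iso = true := by decide
  have iE1 : E1.iso = true := by decide
  have iE2 : E2.iso = true := by decide
  have iE3 : E3.iso = true := by decide
  have iB1 : B1.iso = true := by decide
  have iB2 : B2.iso = true := by decide
  have iEp : (E0.add E1).iso = true := by decide
  have iEs : (E0.add (E1.sm .w)).iso = true := by decide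
  have iEt : (E0.add (E1.sm .v)).iso = true := by decide
  have iEr : (E2.add (E3.sm .w)).iso = true := by decide
  have iEr' : (E2.add (E3.sm .v)).iso = true := by decide
  have LI := C.line E0 E1 iE0 iE1 (by decide) (by decide)
  have LJ := C.line E2 E3 iE2 iE3 (by decide) (by decide)
  have hpp : E2.add E3 = E0.add E1 := by decide
  rw [hpp] at LJ
  have hb : C.P B1 ∈ D := (C.mem _ iB1).1
  have he : C.P E2 ∈ D := (C.mem _ iE2).1
  -- coordinates at `b`
  have pB : ∀ p : C6, p.iso = true → p.fm B1 = .z → (p.np B1 = true) → C.P p ∈ perp D (C.P B1) := by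
    intro p hp hf hn
    exact ⟨(C.mem _ hp).1, C.ne _ _ hp iB1 hn, ((C.comm _ _ hp iB1).2 hf).symm⟩
  have iB : i ∈ perp D (C.P B1) := ⟨hi, (C.mem _ iB1).2.1.symm, (C.mem _ iB1).2.2.symm⟩
  have LB : IsFact D 6 1 [C.P E2, C.P E3, i, C.P (E0.add E1), C.P (E2.add (E3.sm .w)), C.P (E2.add (E3.sm .v))] := by
    refine fact_permute LJ ?_
    exact (List.Perm.swap _ _ _).trans (List.Perm.cons _ (List.Perm.swap _ _ _))
  have LBp : ∀ s ∈ [C.P E2, C.P E3, i, C.P (E0.add E1), C.P (E2.add (E3.sm .w)), C.P (E2.add (E3.sm .v))],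
      s ∈ perp D (C.P B1) := by
    intro s hs
    simp only [List.mem_cons, List.not_mem_nil, or_false] at hs
    rcases hs with rfl | rfl | rfl | rfl | rfl | rfl
    · exact pB _ iE2 (by decide) (by decide)
    · exact pB _ iE3 (by decide) (by decide)
    · exact iB
    · exact pB _ iEp (by decide) (by decide)
    · exact pB _ iEr (by decide) (by decide)
    · exact pB _ iEr' (by decide) (by decide)
  obtain ⟨K, k0, k1, k2, k3, -⟩ := h.exists_co hb LB LBp
  have fB : C.P B2 ∈ perp D (C.P B1) := pB _ iB2 (by decide) (by decide)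
  obtain ⟨φ, hφ, ef⟩ := K.surj _ fB
  have f0 : ¬ Commute (K.P φ) (K.P E0) := by rw [← ef, k0, C.comm _ _ iB2 iE2]; decide
  have f1 : ¬ Commute (K.P φ) (K.P E1) := by rw [← ef, k1, C.comm _ _ iB2 iE3]; decide
  have f2 : Commute (K.P φ) (K.P E2) := by rw [← ef, k2]; exact (C.mem _ iB2).2.2.symm
  have f3 : Commute (K.P φ) (K.P E3) := by rw [← ef, k3, C.comm _ _ iB2 iEp]; decide
  rw [K.comm _ _ hφ iE0] at f0
  rw [K.comm _ _ hφ iE1] at f1
  rw [K.comm _ _ hφ iE2] at f2
  rw [K.comm _ _ hφ iE3] at f3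
  have key : ∀ a b c x y t : K4, fm ⟨a, b, c, x, y, t⟩ E0 ≠ .z → fm ⟨a, b, c, x, y, t⟩ E1 ≠ .z →
      fm ⟨a, b, c, x, y, t⟩ E2 = .z → fm ⟨a, b, c, x, y, t⟩ E3 = .z → ∃ s : K4,
      fm ⟨s, .z, .z, .z, .z, .o⟩ ⟨a, b, c, x, y, t⟩ = .z ∧ fm (E0.add E1) ⟨a, b, c, x, y, t⟩ = .z := by
    decide +kernel
  obtain ⟨s0, hs0, hq⟩ : ∃ s : K4, fm ⟨s, .z, .z, .z, .z, .o⟩ φ = .z ∧ fm (E0.add E1) φ = .z := by
    obtain ⟨a, b, c, x, y, t⟩ := φ
    exact key a b c x y t f0 f1 f2 f3
  have kk : ∀ s k : K4, iso (add ⟨s, .z, .z, .z, .z, .o⟩ (sm k (E0.add E1))) = true ∧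
      fm (add ⟨s, .z, .z, .z, .z, .o⟩ (sm k (E0.add E1))) E0 = .z ∧
      fm (add ⟨s, .z, .z, .z, .z, .o⟩ (sm k (E0.add E1))) E1 = .z ∧
      ¬ fm (add ⟨s, .z, .z, .z, .z, .o⟩ (sm k (E0.add E1))) E2 = .z ∧
      ¬ fm (add ⟨s, .z, .z, .z, .z, .o⟩ (sm k (E0.add E1))) E3 = .z := by decide +kernel
  have kk0 : ∀ s : K4, add ⟨s, .z, .z, .z, .z, .o⟩ (sm .z (E0.add E1)) = ⟨s, .z, .z, .z, .z, .o⟩ ∧
      add ⟨s, .z, .z, .z, .z, .o⟩ (sm .o (E0.add E1)) = add ⟨s, .z, .z, .z, .z, .o⟩ (E0.add E1) ∧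
      fm ⟨s, .z, .z, .z, .z, .o⟩ (E0.add E1) = .z ∧ np ⟨s, .z, .z, .z, .z, .o⟩ (E0.add E1) = true := by
    decide +kernel
  set ζ : C6 := ⟨s0, .z, .z, .z, .z, .o⟩ with hζ
  set q : C6 := E0.add E1 with hqd
  have iζ : ∀ k, (ζ.add (q.sm k)).iso = true := fun k => (kk s0 k).1
  have iz : ζ.add (q.sm .z) = ζ := (kk0 s0).1
  have io : ζ.add (q.sm .o) = ζ.add q := (kk0 s0).2.1
  have iζ0 : ζ.iso = true := by rw [← iz]; exact iζ _
  have iq : q.iso = true := iEp
  -- properties of the four points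
  set Z : K4 → G := fun k => K.P (ζ.add (q.sm k)) with hZ
  have Zf : ∀ k, Commute (Z k) (C.P B2) := by
    intro k
    rw [ef, hZ]
    refine (K.comm _ _ (iζ k) hφ).2 ?_
    rw [fm_add, fm_sm, hs0, hq]
    revert k; decide
  have Ze : ∀ k, Commute (Z k) (C.P E2) := by
    intro k
    rw [← k0, hZ]
    exact (K.comm _ _ (iζ k) iE0).2 (kk s0 k).2.1
  have Zg : ∀ k, Commute (Z k) (C.P E3) := by
    intro k
    rw [← k1, hZ]
    exact (K.comm _ _ (iζ k) iE1).2 (kk s0 k).2.2.1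
  have Zi : ∀ k, ¬ Commute (Z k) i := by
    intro k
    rw [← k2, hZ]
    rw [K.comm _ _ (iζ k) iE2]
    exact (kk s0 k).2.2.2.1
  have Zp : ∀ k, ¬ Commute (Z k) (C.P (E0.add E1)) := by
    intro k
    rw [← k3, hZ]
    rw [K.comm _ _ (iζ k) iE3]
    exact (kk s0 k).2.2.2.2
  have Zb : ∀ k, Commute (Z k) (C.P B1) := fun k => (K.mem _ (iζ k)).2.2.symm
  have ZD : ∀ k, Z k ∈ D := fun k => (K.mem _ (iζ k)).1
  have LK := K.line ζ q iζ0 iq (kk0 s0).2.2.1 (kk0 s0).2.2.2
  have LK' : IsFact D 6 1 [C.P B1, Z .z, K.P q, Z .o, Z .w, Z .v] := by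
    rw [hZ]; simp only [iz, io]; exact LK
  -- columns
  have hcol : ∀ x ∈ D, Commute x (C.P E2) → Commute x (C.P E3) → ¬ Commute x (C.P B1) →
      (if Commute (Z .z) x then 1 else 0) + (if Commute (Z .o) x then 1 else 0) +
        (if Commute (Z .w) x then 1 else 0) + (if Commute (Z .v) x then 1 else 0) ≤ 2 := by
    intro x hx xe xg xb
    have hnd := LK'.1
    simp only [List.nodup_cons, List.mem_cons, List.not_mem_nil, or_false, not_or, List.nodup_nil, and_true,
      not_false_eq_true] at hnd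
    obtain ⟨-, ⟨-, n24, n25, n26⟩, -, ⟨n45, n46⟩, n56⟩ := hnd
    refine ind_le_two ?_ ?_ ?_ ?_ <;> rintro ⟨h1, h2, h3⟩ <;> apply xb
    · exact h.six_all LK' hx (a := Z .z) (b := Z .o) (c := Z .w) (by simp) (by simp) (by simp) n24 n25 n45 h1.symm
        h2.symm h3.symm (by simp)
    · exact h.six_all LK' hx (a := Z .z) (b := Z .o) (c := Z .v) (by simp) (by simp) (by simp) n24 n26 n46 h1.symm
        h2.symm h3.symm (by simp)
    · exact h.six_all LK' hx (a := Z .z) (b := Z .w) (c := Z .v) (by simp) (by simp) (by simp) n25 n26 n56 h1.symm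
        h2.symm h3.symm (by simp)
    · exact h.six_all LK' hx (a := Z .o) (b := Z .w) (c := Z .v) (by simp) (by simp) (by simp) n45 n46 n56 h1.symm
        h2.symm h3.symm (by simp)
  -- rows
  have pE : ∀ p : C6, p.iso = true → p.fm E2 = .z → p.np E2 = true → C.P p ∈ perp D (C.P E2) := by
    intro p hp hf hn
    exact ⟨(C.mem _ hp).1, C.ne _ _ hp iE2 hn, ((C.comm _ _ hp iE2).2 hf).symm⟩
  have LE : IsFact D 6 1 [i, C.P (E0.add E1), C.P E0, C.P E1, C.P (E0.add (E1.sm .w)), C.P (E0.add (E1.sm .v))] := by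
    refine fact_permute LI ?_
    refine List.Perm.cons _ ?_
    exact (List.Perm.cons _ (List.Perm.swap _ _ _)).trans (List.Perm.swap _ _ _)
  have LEp : ∀ x ∈ [i, C.P (E0.add E1), C.P E0, C.P E1, C.P (E0.add (E1.sm .w)), C.P (E0.add (E1.sm .v))],
      x ∈ perp D (C.P E2) := by
    intro s hs
    simp only [List.mem_cons, List.not_mem_nil, or_false] at hs
    rcases hs with rfl | rfl | rfl | rfl | rfl | rfl
    · exact ⟨hi, (C.mem _ iE2).2.1.symm, (C.mem _ iE2).2.2.symm⟩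
    · exact pE _ iEp (by decide) (by decide)
    · exact pE _ iE0 (by decide) (by decide)
    · exact pE _ iE1 (by decide) (by decide)
    · exact pE _ iEs (by decide) (by decide)
    · exact pE _ iEt (by decide) (by decide)
  have LEf : ∀ x ∈ [i, C.P (E0.add E1), C.P E0, C.P E1, C.P (E0.add (E1.sm .w)), C.P (E0.add (E1.sm .v))],
      Commute (C.P B2) x := by
    intro s hs
    simp only [List.mem_cons, List.not_mem_nil, or_false] at hs
    rcases hs with rfl | rfl | rfl | rfl | rfl | rfl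
    · exact (C.mem _ iB2).2.2.symm
    · exact (C.comm _ _ iB2 iEp).2 (by decide)
    · exact (C.comm _ _ iB2 iE0).2 (by decide)
    · exact (C.comm _ _ iB2 iE1).2 (by decide)
    · exact (C.comm _ _ iB2 iEs).2 (by decide)
    · exact (C.comm _ _ iB2 iEt).2 (by decide)
  have fe : ¬ Commute (C.P B2) (C.P E2) := by rw [C.comm _ _ iB2 iE2]; decide
  have hrow : ∀ k, ¬ Commute (Z k) (C.P E0) → 2 ≤ (if Commute (Z k) (C.P E1) then 1 else 0) +
      (if Commute (Z k) (C.P (E0.add (E1.sm .w))) then 1 else 0) +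
      (if Commute (Z k) (C.P (E0.add (E1.sm .v))) then 1 else 0) := by
    intro k hk
    have hzp : Z k ∈ perp D (C.P E2) := by
      refine ⟨ZD k, ?_, (Ze k).symm⟩
      intro h1
      apply Zi k
      rw [h1]
      exact (C.mem _ iE2).2.2.symm
    obtain ⟨x, hx, hxz⟩ := h.meets he LE LEp hzp (C.mem _ iB2).1 LEf (Zf k).symm fe
    obtain ⟨y, hy, hyx, hyz⟩ := h.six_one LE (ZD k) hx hxz
    simp only [List.mem_cons, List.not_mem_nil, or_false] at hx hy
    rcases hx with rfl | rfl | rfl | rfl | rfl | rfl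
    · exact absurd hxz (Zi k)
    · exact absurd hxz (Zp k)
    · exact absurd hxz hk
    · rcases hy with rfl | rfl | rfl | rfl | rfl | rfl
      · exact absurd hyz (Zi k)
      · exact absurd hyz (Zp k)
      · exact absurd hyz hk
      · exact absurd rfl hyx
      · rw [if_pos hxz, if_pos hyz]; omega
      · rw [if_pos hxz, if_pos hyz]; omega
    · rcases hy with rfl | rfl | rfl | rfl | rfl | rfl
      · exact absurd hyz (Zi k)
      · exact absurd hyz (Zp k)
      · exact absurd hyz hk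
      · rw [if_pos hxz, if_pos hyz]; omega
      · exact absurd rfl hyx
      · rw [if_pos hxz, if_pos hyz]; omega
    · rcases hy with rfl | rfl | rfl | rfl | rfl | rfl
      · exact absurd hyz (Zi k)
      · exact absurd hyz (Zp k)
      · exact absurd hyz hk
      · rw [if_pos hxz, if_pos hyz]; omega
      · rw [if_pos hxz, if_pos hyz]; omega
      · exact absurd rfl hyx
  -- pigeonhole
  have hex : ∃ k, Commute (Z k) (C.P E0) := by
    by_contra hcon
    push Not at hcon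
    have r0 := hrow .z (hcon _)
    have r1 := hrow .o (hcon _)
    have r2 := hrow .w (hcon _)
    have r3 := hrow .v (hcon _)
    have c1 := hcol (C.P E1) (C.mem _ iE1).1 ((C.comm _ _ iE1 iE2).2 (by decide)) ((C.comm _ _ iE1 iE3).2 (by decide))
      (by rw [C.comm _ _ iE1 iB1]; decide)
    have c2 := hcol (C.P (E0.add (E1.sm .w))) (C.mem _ iEs).1 ((C.comm _ _ iEs iE2).2 (by decide))
      ((C.comm _ _ iEs iE3).2 (by decide)) (by rw [C.comm _ _ iEs iB1]; decide)
    have c3 := hcol (C.P (E0.add (E1.sm .v))) (C.mem _ iEt).1 ((C.comm _ _ iEt iE2).2 (by decide))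
      ((C.comm _ _ iEt iE3).2 (by decide)) (by rw [C.comm _ _ iEt iB1]; decide)
    omega
  obtain ⟨k, hk⟩ := hex
  have hnd := hl.1
  simp only [List.nodup_cons, List.mem_cons, List.not_mem_nil, or_false, not_or, List.nodup_nil, and_true,
    not_false_eq_true] at hnd
  obtain ⟨⟨-, n13, n14, -⟩, -, ⟨n34, -⟩, -⟩ := hnd
  have hk1 : Commute (Z k) (C.P E1) := h.six_all hl (ZD k) (a := C.P E0) (b := C.P E2) (c := C.P E3) (by simp)
    (by simp) (by simp) n13 n14 n34 hk (Ze k) (Zg k) (by simp)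
  exact ⟨Z k, ZD k, Zi k, hk, hk1, Ze k, Zg k, Zb k, Zf k⟩

end H22

end Cfsg.Agent.FW
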