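import Cfsg.Agent.FW.Hexad

/-!
# Sets of six commuting members of a class of type M(22) with trivial product
-/

set_option autoImplicit false
set_option linter.unusedSectionVars false

namespace Cfsg.Agent.FW

open Cfsg.Agent.Fi22

open Finset Matrix Module Cfsg.Agent.Uni Cfsg.Agent.ThreeTransp

section vec

variable {F : Type*} [Field F] [Fintype F] {n : ℕ}

theorem np_lin {u v : Fin n → F} (hu : u ≠ 0) (huv : NP u v) {x y : F} (h : x • u + y • v = 0) :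
    x = 0 ∧ y = 0 := by
  have hy : y = 0 := by
    by_contra hy
    apply huv (-(y⁻¹ * x))
    have h1 : y • v = -(x • u) := by rw [eq_neg_iff_add_eq_zero, add_comm]; exact h
    have h2 := congrArg (fun z => y⁻¹ • z) h1
    simp only [smul_smul, inv_mul_cancel₀ hy, one_smul, smul_neg] at h2
    rw [h2, neg_smul]
  rw [hy, zero_smul, add_zero, smul_eq_zero] at h
  exact ⟨h.resolve_right hu, hy⟩

theorem np_line {u v : Fin n → F} (hu : u ≠ 0) (huv : NP u v) {α β : F} (h : α ≠ β) :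
    NP (u + α • v) (u + β • v) := by
  intro c hc
  have h1 : (1 - c) • u + (β - c * α) • v = 0 := by
    rw [smul_add, smul_smul] at hc
    rw [sub_smul, sub_smul, one_smul]
    have : u - c • u + (β • v - (c * α) • v) = (u + β • v) - (c • u + (c * α) • v) := by abel
    rw [this, hc, sub_self]
  obtain ⟨h2, h3⟩ := np_lin hu huv h1
  have h4 : c = 1 := (sub_eq_zero.1 h2).symm
  rw [h4, one_mul] at h3
  exact h (sub_eq_zero.1 h3).symm

theorem np_line_u {u v : Fin n → F} (hu : u ≠ 0) (huv : NP u v) {α : F} (h : α ≠ 0) :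
    NP u (u + α • v) := by
  have := np_line hu huv (α := 0) (β := α) h.symm
  rwa [zero_smul, add_zero] at this

theorem np_line_v {u v : Fin n → F} (hu : u ≠ 0) (huv : NP u v) (α : F) :
    NP v (u + α • v) := by
  intro c hc
  have h1 : (1 : F) • u + (α - c) • v = 0 := by
    rw [one_smul, sub_smul, ← hc]; abel
  exact one_ne_zero (np_lin hu huv h1).1

theorem line_ne {u v : Fin n → F} (hu : u ≠ 0) (huv : NP u v) (α : F) : u + α • v ≠ 0 := by
  intro h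
  exact one_ne_zero (np_lin (x := 1) (y := α) hu huv (by rw [one_smul]; exact h)).1

theorem line_iso (hF : Fintype.card F = 2 ^ 2) {u v : Fin n → F} (hu : hermForm n F 2 u u = 0)
    (hv : hermForm n F 2 v v = 0) (huv : hermForm n F 2 u v = 0) (α β : F) :
    hermForm n F 2 (u + α • v) (u + β • v) = 0 := by
  have hvu : hermForm n F 2 v u = 0 := (hermForm_eq_zero_comm hF).1 huv
  simp only [hermForm_add_left, hermForm_add_right hF, hermForm_smul_left, hermForm_smul_right, hu, hv, huv, hvu]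
  ring

theorem line_iso_u (hF : Fintype.card F = 2 ^ 2) {u v : Fin n → F} (hu : hermForm n F 2 u u = 0)
    (huv : hermForm n F 2 u v = 0) (β : F) :
    hermForm n F 2 u (u + β • v) = 0 := by
  simp only [hermForm_add_right hF, hermForm_smul_right, hu, huv]
  ring

theorem line_iso_v (hF : Fintype.card F = 2 ^ 2) {u v : Fin n → F} (hv : hermForm n F 2 v v = 0)
    (huv : hermForm n F 2 u v = 0) (β : F) :
    hermForm n F 2 v (u + β • v) = 0 := by
  have hvu : hermForm n F 2 v u = 0 := (hermForm_eq_zero_comm hF).1 huv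
  simp only [hermForm_add_right hF, hermForm_smul_right, hv, hvu]
  ring

end vec

variable {G : Type*} [Group G] {D : Set G}

/-- six distinct commuting members of `D` with product one -/
structure IsHexad (D : Set G) (l : List G) : Prop where
  nodup : l.Nodup
  len : l.length = 6
  mem : ∀ a ∈ l, a ∈ D
  comm : ∀ a ∈ l, ∀ b ∈ l, Commute a b
  prod : l.prod = 1

namespace H22

variable [Finite G] (h : H22 D)

include h

theorem exists_hexad {a b c : G} (ha : a ∈ D) (hb : b ∈ perp D a) (hc : c ∈ perp D a) (hbc : b ≠ c)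
    (cbc : Commute b c) : ∃ y3 y4 y5 : G, IsHexad D [a, b, c, y3, y4, y5] ∧
      ∀ p q r : G, IsHexad D [a, b, c, p, q, r] → p = y3 ∨ p = y4 ∨ p = y5 := by
  obtain ⟨F, i1, i2, ⟨Δ⟩⟩ := h.dict ha
  have hF := Δ.hF
  obtain ⟨u, hu0, hu, rfl⟩ := Δ.exists_pt hb
  obtain ⟨v, hv0, hv, rfl⟩ := Δ.exists_pt hc
  have huv := (Δ.commute_pt hu0 hu hv0 hv).1 cbc
  have hnp := (Δ.pt_ne_iff hu0 hu hv0 hv).1 hbc
  obtain ⟨ω, hω⟩ := exists_omega hF
  have hω0 := omega_ne_zero hω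
  have hω1 := omega_ne_one hF hω
  have hω2 : ω ^ 2 ≠ 0 := pow_ne_zero _ hω0
  have hω3 : ω ^ 2 ≠ 1 := by
    intro h1; rw [h1] at hω
    exact hω0 (by linear_combination -hω)
  have hω4 : ω ≠ ω ^ 2 := by
    intro h1
    rcases sq_eq_self_iff'.1 h1.symm with h2 | h2
    · exact hω0 h2
    · exact hω1 h2
  set p1 := u + (1 : F) • v with hp1
  set p2 := u + ω • v with hp2
  set p3 := u + ω ^ 2 • v with hp3
  have n1 : p1 ≠ 0 := line_ne hu0 hnp _
  have n2 : p2 ≠ 0 := line_ne hu0 hnp _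
  have n3 : p3 ≠ 0 := line_ne hu0 hnp _
  have s1 : hermForm 6 F 2 p1 p1 = 0 := line_iso hF hu hv huv _ _
  have s2 : hermForm 6 F 2 p2 p2 = 0 := line_iso hF hu hv huv _ _
  have s3 : hermForm 6 F 2 p3 p3 = 0 := line_iso hF hu hv huv _ _
  have t12 : hermForm 6 F 2 p1 p2 = 0 := line_iso hF hu hv huv _ _
  have t13 : hermForm 6 F 2 p1 p3 = 0 := line_iso hF hu hv huv _ _
  have t23 : hermForm 6 F 2 p2 p3 = 0 := line_iso hF hu hv huv _ _
  have tu1 : hermForm 6 F 2 u p1 = 0 := line_iso_u hF hu huv _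
  have tu2 : hermForm 6 F 2 u p2 = 0 := line_iso_u hF hu huv _
  have tu3 : hermForm 6 F 2 u p3 = 0 := line_iso_u hF hu huv _
  have tv1 : hermForm 6 F 2 v p1 = 0 := line_iso_v hF hv huv _
  have tv2 : hermForm 6 F 2 v p2 = 0 := line_iso_v hF hv huv _
  have tv3 : hermForm 6 F 2 v p3 = 0 := line_iso_v hF hv huv _
  have c12 := (Δ.commute_pt n1 s1 n2 s2).2 t12
  have c13 := (Δ.commute_pt n1 s1 n3 s3).2 t13
  have c23 := (Δ.commute_pt n2 s2 n3 s3).2 t23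
  have cu1 := (Δ.commute_pt hu0 hu n1 s1).2 tu1
  have cu2 := (Δ.commute_pt hu0 hu n2 s2).2 tu2
  have cu3 := (Δ.commute_pt hu0 hu n3 s3).2 tu3
  have cv1 := (Δ.commute_pt hv0 hv n1 s1).2 tv1
  have cv2 := (Δ.commute_pt hv0 hv n2 s2).2 tv2
  have cv3 := (Δ.commute_pt hv0 hv n3 s3).2 tv3
  have m1 := Δ.pt_mem n1 s1
  have m2 := Δ.pt_mem n2 s2
  have m3 := Δ.pt_mem n3 s3
  have d12 : Δ.pt p1 ≠ Δ.pt p2 := (Δ.pt_ne_iff n1 s1 n2 s2).2 (np_line hu0 hnp hω1.symm)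
  have d13 : Δ.pt p1 ≠ Δ.pt p3 := (Δ.pt_ne_iff n1 s1 n3 s3).2 (np_line hu0 hnp hω3.symm)
  have d23 : Δ.pt p2 ≠ Δ.pt p3 := (Δ.pt_ne_iff n2 s2 n3 s3).2 (np_line hu0 hnp hω4)
  have du1 : Δ.pt u ≠ Δ.pt p1 := (Δ.pt_ne_iff hu0 hu n1 s1).2 (np_line_u hu0 hnp one_ne_zero)
  have du2 : Δ.pt u ≠ Δ.pt p2 := (Δ.pt_ne_iff hu0 hu n2 s2).2 (np_line_u hu0 hnp hω0)
  have du3 : Δ.pt u ≠ Δ.pt p3 := (Δ.pt_ne_iff hu0 hu n3 s3).2 (np_line_u hu0 hnp hω2)
  have dv1 : Δ.pt v ≠ Δ.pt p1 := (Δ.pt_ne_iff hv0 hv n1 s1).2 (np_line_v hu0 hnp _)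
  have dv2 : Δ.pt v ≠ Δ.pt p2 := (Δ.pt_ne_iff hv0 hv n2 s2).2 (np_line_v hu0 hnp _)
  have dv3 : Δ.pt v ≠ Δ.pt p3 := (Δ.pt_ne_iff hv0 hv n3 s3).2 (np_line_v hu0 hnp _)
  have hl0 : ∀ z ∈ [u, v, p1, p2, p3], z ≠ 0 ∧ hermForm 6 F 2 z z = 0 := by
    simp only [List.mem_cons, List.not_mem_nil, or_false, forall_eq_or_imp, forall_eq]
    exact ⟨⟨hu0, hu⟩, ⟨hv0, hv⟩, ⟨n1, s1⟩, ⟨n2, s2⟩, ⟨n3, s3⟩⟩
  have hl : ∀ z ∈ [u, v, p1, p2, p3], ∀ w ∈ [u, v, p1, p2, p3], hermForm 6 F 2 z w = 0 := by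
    have sy : ∀ {z w : Fin 6 → F}, hermForm 6 F 2 z w = 0 → hermForm 6 F 2 w z = 0 :=
      fun hh => (hermForm_eq_zero_comm hF).1 hh
    simp only [List.mem_cons, List.not_mem_nil, or_false, forall_eq_or_imp, forall_eq]
    exact ⟨⟨hu, huv, tu1, tu2, tu3⟩, ⟨sy huv, hv, tv1, tv2, tv3⟩, ⟨sy tu1, sy tv1, s1, t12, t13⟩,
      ⟨sy tu2, sy tv2, sy t12, s2, t23⟩, ⟨sy tu3, sy tv3, sy t13, sy t23, s3⟩⟩
  have hrk : ∀ x, rk [u, v, p1, p2, p3] x = 0 := by
    intro x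
    have := rk_line hF hω u v x
    rw [hp1, one_smul]; exact this
  have hcen := (Δ.central_iff hl0 hl).2 hrk
  simp only [List.map_cons, List.map_nil, List.prod_cons, List.prod_nil, mul_one] at hcen
  have haa := mul_self h.cls.1 ha
  have hprod : Δ.pt u * (Δ.pt v * (Δ.pt p1 * (Δ.pt p2 * Δ.pt p3))) = a := by
    rcases h.centralizer_perp ha hcen with h1 | h1
    · exfalso
      have huu := mul_self h.cls.1 hb.1
      have h2 : Δ.pt v * Δ.pt p1 * Δ.pt p2 * Δ.pt p3 = Δ.pt u := by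
        have h3 : Δ.pt v * (Δ.pt p1 * (Δ.pt p2 * Δ.pt p3)) = (Δ.pt u)⁻¹ := eq_inv_of_mul_eq_one_right h1
        rw [inv_eq h.cls.1 hb.1] at h3
        rw [← h3]; simp only [mul_assoc]
      refine h.no_four_pt (a := Δ.pt u) (y1 := Δ.pt v) (y2 := Δ.pt p1) (y3 := Δ.pt p2) (y4 := Δ.pt p3) hb.1
        ⟨hc.1, hbc.symm, cbc⟩ ⟨m1.1, du1.symm, cu1⟩ ⟨m2.1, du2.symm, cu2⟩ ⟨m3.1, du3.symm, cu3⟩
        dv1 d12.symm d13.symm ?_ ?_
      · simp only [List.mem_cons, List.not_mem_nil, or_false, forall_eq_or_imp, forall_eq]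
        exact ⟨⟨Commute.refl _, cv1, cv2, cv3⟩, ⟨cv1.symm, Commute.refl _, c12, c13⟩,
          ⟨cv2.symm, c12.symm, Commute.refl _, c23⟩, ⟨cv3.symm, c13.symm, c23.symm, Commute.refl _⟩⟩
      · intro y hy
        rw [h2]; exact hy.2.2.symm
    · exact h1
  refine ⟨Δ.pt p1, Δ.pt p2, Δ.pt p3, ⟨?_, rfl, ?_, ?_, ?_⟩, ?_⟩
  · simp only [List.nodup_cons, List.mem_cons, List.not_mem_nil, or_false, not_or, List.nodup_nil, and_true,
      not_false_eq_true]
    exact ⟨⟨hb.2.1.symm, hc.2.1.symm, m1.2.1.symm, m2.2.1.symm, m3.2.1.symm⟩, ⟨hbc, du1, du2, du3⟩,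
      ⟨dv1, dv2, dv3⟩, ⟨d12, d13⟩, d23⟩
  · simp only [List.mem_cons, List.not_mem_nil, or_false, forall_eq_or_imp, forall_eq]
    exact ⟨ha, hb.1, hc.1, m1.1, m2.1, m3.1⟩
  · simp only [List.mem_cons, List.not_mem_nil, or_false, forall_eq_or_imp, forall_eq]
    refine ⟨⟨Commute.refl _, hb.2.2, hc.2.2, m1.2.2, m2.2.2, m3.2.2⟩,
      ⟨hb.2.2.symm, Commute.refl _, cbc, cu1, cu2, cu3⟩,
      ⟨hc.2.2.symm, cbc.symm, Commute.refl _, cv1, cv2, cv3⟩,
      ⟨m1.2.2.symm, cu1.symm, cv1.symm, Commute.refl _, c12, c13⟩,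
      ⟨m2.2.2.symm, cu2.symm, cv2.symm, c12.symm, Commute.refl _, c23⟩,
      ⟨m3.2.2.symm, cu3.symm, cv3.symm, c13.symm, c23.symm, Commute.refl _⟩⟩
  · simp only [List.prod_cons, List.prod_nil, mul_one]
    rw [hprod, haa]
  · intro p q r hpqr
    obtain ⟨hnd, -, hm, hcm, hpr⟩ := hpqr
    simp only [List.nodup_cons, List.mem_cons, List.not_mem_nil, or_false, not_or, List.nodup_nil, and_true,
      not_false_eq_true] at hnd
    obtain ⟨⟨-, -, hap, haq, har⟩, ⟨-, hup, huq, hur⟩, ⟨hvp, hvq, hvr⟩, ⟨hpq, hprr⟩, hqr⟩ := hnd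
    have hmp : p ∈ perp D a := ⟨hm p (by simp), Ne.symm hap, hcm a (by simp) p (by simp)⟩
    have hmq : q ∈ perp D a := ⟨hm q (by simp), Ne.symm haq, hcm a (by simp) q (by simp)⟩
    have hmr : r ∈ perp D a := ⟨hm r (by simp), Ne.symm har, hcm a (by simp) r (by simp)⟩
    obtain ⟨x, hx0, hx, rfl⟩ := Δ.exists_pt hmp
    obtain ⟨y, hy0, hy, rfl⟩ := Δ.exists_pt hmq
    obtain ⟨z, hz0, hz, rfl⟩ := Δ.exists_pt hmr
    have hm0 : ∀ z' ∈ [u, v, x, y, z], z' ≠ 0 ∧ hermForm 6 F 2 z' z' = 0 := by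
      simp only [List.mem_cons, List.not_mem_nil, or_false, forall_eq_or_imp, forall_eq]
      exact ⟨⟨hu0, hu⟩, ⟨hv0, hv⟩, ⟨hx0, hx⟩, ⟨hy0, hy⟩, ⟨hz0, hz⟩⟩
    have hml : ∀ s ∈ [u, v, x, y, z], ∀ t ∈ [u, v, x, y, z], hermForm 6 F 2 s t = 0 := by
      intro s hs t ht
      rw [← Δ.commute_pt (hm0 s hs).1 (hm0 s hs).2 (hm0 t ht).1 (hm0 t ht).2]
      apply hcm
      · have := List.mem_map_of_mem (f := Δ.pt) hs
        exact List.mem_cons_of_mem _ (by simpa using this)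
      · have := List.mem_map_of_mem (f := Δ.pt) ht
        exact List.mem_cons_of_mem _ (by simpa using this)
    have hpr' : Δ.pt u * (Δ.pt v * (Δ.pt x * (Δ.pt y * Δ.pt z))) = a := by
      simp only [List.prod_cons, List.prod_nil, mul_one] at hpr
      have := eq_inv_of_mul_eq_one_right hpr
      rwa [inv_eq h.cls.1 ha] at this
    have hrk' := (Δ.central_iff hm0 hml).1 (by
      simp only [List.map_cons, List.map_nil, List.prod_cons, List.prod_nil, mul_one]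
      rw [hpr']
      exact fun y hy => hy.2.2.symm)
    have hmem := five_collinear hF ((Δ.pt_ne_iff hy0 hy hx0 hx).1 (Ne.symm hpq))
      ((Δ.pt_ne_iff hz0 hz hx0 hx).1 (Ne.symm hprr)) hrk'
    obtain ⟨α, β, hαβ⟩ := Submodule.mem_span_pair.1 hmem
    have hα : α ≠ 0 := by
      rintro rfl
      rw [zero_smul, zero_add] at hαβ
      have hβ : β ≠ 0 := by rintro rfl; exact hx0 (by rw [← hαβ, zero_smul])
      exact hvp (by rw [← hαβ, Δ.pt_smul hv0 hv hβ])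
    have hβ : β ≠ 0 := by
      rintro rfl
      rw [zero_smul, add_zero] at hαβ
      exact hup (by rw [← hαβ, Δ.pt_smul hu0 hu hα])
    have hfin : ∀ γ : F, β = α * γ → Δ.pt x = Δ.pt (u + γ • v) := by
      intro γ hγ
      have : x = α • (u + γ • v) := by rw [← hαβ, hγ, smul_add, smul_smul]
      rw [this]
      exact Δ.pt_smul (line_ne hu0 hnp _) (line_iso hF hu hv huv _ _) hα
    rcases F_cases hF hω (α⁻¹ * β) with h1 | h1 | h1 | h1
    · exact absurd h1 (mul_ne_zero (inv_ne_zero hα) hβ)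
    · left; exact hfin 1 (by rw [← h1, mul_inv_cancel_left₀ hα])
    · right; left; exact hfin ω (by rw [← h1, mul_inv_cancel_left₀ hα])
    · right; right; exact hfin (ω ^ 2) (by rw [← h1, mul_inv_cancel_left₀ hα])

end H22

end Cfsg.Agent.FW
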