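import Cfsg.Agent.FW.Count22
import Cfsg.Agent.Fi22.Num

/-!
# Classes of 3-transpositions with local regularity: the number of commuting members of a noncommuting pair
-/

set_option autoImplicit false
set_option linter.unusedSectionVars false

namespace Cfsg.Agent.FW

open Cfsg.Agent.Fi22

open Finset Cfsg.Agent.ThreeTransp

variable {G : Type*} [Group G] {D : Set G} [Finite G]

open Classical in
/-- a class of 3-transpositions with connected commuting graph, irreducible, with local parameters -/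
structure Lev (D : Set G) (k l κ m1 m2 : ℕ) : Prop where
  cls : Cfsg.IsThreeTranspositionClass D
  irr : Irred D
  cen : Subgroup.center G = ⊥
  conn : (Cfsg.commutingGraph D).Connected
  pr : ∃ a ∈ D, ∃ b ∈ D, a ≠ b ∧ Commute a b
  nc : ∀ d ∈ D, ∃ e ∈ D, ¬ Commute d e
  par : Comb.Par (DF D) (NF D) k l κ m1 m2

theorem mem_NF' {x y : G} : y ∈ NF D x ↔ y ∈ D ∧ y ≠ x ∧ Commute x y := mem_NF

theorem nc_iff {x y : G} (hy : y ∈ D) : (x ≠ y ∧ y ∉ NF D x) ↔ ¬ Commute x y := by
  rw [mem_NF']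
  constructor
  · rintro ⟨h1, h2⟩ h3
    exact h2 ⟨hy, h1.symm, h3⟩
  · intro h
    refine ⟨?_, fun h1 => h h1.2.2⟩
    rintro rfl; exact h (Commute.refl _)

open Classical in
theorem card_inter_conj (hconj : ∀ g : G, ∀ d ∈ D, g * d * g⁻¹ ∈ D) (g x y : G) :
    (NF D (g * x * g⁻¹) ∩ NF D (g * y * g⁻¹)).card = (NF D x ∩ NF D y).card := by
  have : NF D (g * x * g⁻¹) ∩ NF D (g * y * g⁻¹) = (NF D x ∩ NF D y).image (fun z => g * z * g⁻¹) := by
    ext z
    rw [mem_image, mem_inter, mem_NF, mem_NF]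
    constructor
    · rintro ⟨h1, h2⟩
      refine ⟨g⁻¹ * z * g, ?_, by group⟩
      have e : z = g * (g⁻¹ * z * g) * g⁻¹ := by group
      rw [e, perp_conj_iff hconj] at h1 h2
      exact mem_inter.2 ⟨mem_NF.2 h1, mem_NF.2 h2⟩
    · rintro ⟨w, hw, rfl⟩
      rw [mem_inter, mem_NF, mem_NF] at hw
      exact ⟨(perp_conj_iff hconj g).2 hw.1, (perp_conj_iff hconj g).2 hw.2⟩
  rw [this, Finset.card_image_of_injective]
  intro a b hab
  exact mul_left_cancel (mul_right_cancel hab)

open Classical in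
/-- the number of members commuting with both members of a noncommuting pair is `μ` -/
def Mu (D : Set G) (μ : ℕ) : Prop :=
  ∀ x ∈ DF D, ∀ y ∈ DF D, x ≠ y → y ∉ NF D x → (NF D x ∩ NF D y).card = μ

theorem exists_Mu (hcls : Cfsg.IsThreeTranspositionClass D) (hI : Irred D)
    (hpr : ∃ a ∈ D, ∃ b ∈ D, a ≠ b ∧ Commute a b) (hnc : ∀ d ∈ D, ∃ e ∈ D, ¬ Commute d e) : ∃ μ, Mu D μ := by
  classical
  obtain ⟨a, ha, b, hb, hab, hc⟩ := hpr
  obtain ⟨e, he, hae⟩ := hnc a ha
  have hconj : ∀ g : G, ∀ d ∈ D, g * d * g⁻¹ ∈ D := fun g d hd => conj_mem hcls hd g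
  refine ⟨(NF D a ∩ NF D e).card, ?_⟩
  intro x hx y hy hne hnxy
  rw [mem_DF] at hx hy
  have hxy := (nc_iff hy).1 ⟨hne, hnxy⟩
  obtain ⟨g, rfl⟩ := exists_conj hcls ha hx
  have h1 : ¬ Commute (g * a * g⁻¹) (g * e * g⁻¹) := by rwa [commute_conj_iff]
  obtain ⟨h, h2, h3⟩ := transitive_noncommuting hcls hI ha hb hab hc hx (hconj g e he) hy h1 hxy
  rw [← card_inter_conj hconj g a e, ← card_inter_conj hconj h (g * a * g⁻¹) (g * e * g⁻¹), h2, h3]

section line

variable (hcls : Cfsg.IsThreeTranspositionClass D)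
include hcls

/-- third points -/
theorem line_mem {e c y : G} (he : e ∈ D) (hc : c ∈ D) (hec : ¬ Commute e c) :
    (y ∈ perp D e ∧ y ∈ perp D (e * c * e⁻¹)) ↔ (y ∈ perp D e ∧ y ∈ perp D c) := by
  refine and_congr_right fun hy => ?_
  have h1 : Commute (e * c * e⁻¹) y ↔ Commute c y := by
    have h2 : y = e * y * e⁻¹ := by rw [hy.2.2.eq, mul_inv_cancel_right]
    rw [h2, commute_conj_iff, ← h2]
  constructor
  · rintro ⟨h2, h3, h4⟩
    refine ⟨h2, ?_, h1.1 h4⟩
    rintro rfl; exact hec hy.2.2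
  · rintro ⟨h2, h3, h4⟩
    refine ⟨h2, ?_, h1.2 h4⟩
    intro h5
    apply third_not_commute hec
    rw [← h5]; exact hy.2.2

open Classical in
theorem line {e c : G} (he : e ∈ D) (hc : c ∈ D) (hec : ¬ Commute e c) :
    Comb.Line (DF D) (NF D) e c (e * c * e⁻¹) where
  he := mem_DF.2 he
  hc := mem_DF.2 hc
  hT := mem_DF.2 (conj_mem hcls hc e)
  nec := ((nc_iff hc).2 hec).1
  neT := ((nc_iff (conj_mem hcls hc e)).2 (third_not_commute hec)).1
  ncT := by
    intro h
    apply hec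
    exact mul_inv_eq_iff_eq_mul.1 h.symm
  ec := ((nc_iff hc).2 hec).2
  eT := ((nc_iff (conj_mem hcls hc e)).2 (third_not_commute hec)).2
  cT := by
    have h1 : ¬ Commute c (e * c * e⁻¹) := by
      rw [third hcls.1 he hc hec]
      exact third_not_commute (fun h => hec h.symm)
    exact ((nc_iff (conj_mem hcls hc e)).2 h1).2
  CeT := by
    ext y
    rw [mem_inter, mem_inter, mem_NF, mem_NF, mem_NF]
    exact line_mem hcls he hc hec
  CcT := by
    ext y
    rw [mem_inter, mem_inter, mem_NF, mem_NF, mem_NF, third hcls.1 he hc hec,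
      line_mem hcls hc he (fun h => hec h.symm), and_comm]

/-- the members of `D` fixed by an element `e c` of order three -/
theorem fixed_iff {e c x : G} (he : e ∈ D) (hc : c ∈ D) (hec : ¬ Commute e c) (hx : x ∈ D) :
    (e * c) * x * (e * c)⁻¹ = x ↔ Commute e x ∧ Commute c x := by
  have hei := inv_eq hcls.1 he
  have hci := inv_eq hcls.1 hc
  constructor
  · intro h
    have h1 : c * x * c⁻¹ = e * x * e⁻¹ := by
      have h2 : e * (c * x * c⁻¹) * e⁻¹ = x := by
        calc e * (c * x * c⁻¹) * e⁻¹ = (e * c) * x * (e * c)⁻¹ := by group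
          _ = x := h
      calc c * x * c⁻¹ = e⁻¹ * (e * (c * x * c⁻¹) * e⁻¹) * e := by group
        _ = e * x * e⁻¹ := by rw [h2, hei]
    by_cases h3 : Commute c x
    · refine ⟨?_, h3⟩
      rw [h3.eq, mul_inv_cancel_right] at h1
      exact (mul_inv_eq_iff_eq_mul.1 h1.symm)
    · exfalso
      by_cases h4 : Commute e x
      · rw [h4.eq, mul_inv_cancel_right] at h1
        exact h3 (mul_inv_eq_iff_eq_mul.1 h1)
      · apply hec
        have h5 := third_conj hcls.1 hc hx h3
        have h6 := third_conj hcls.1 he hx h4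
        -- both `c` and `e` are the conjugate of `x` by the third point
        have h7 := third_conj' hcls.1 hc hx h3
        have h8 := third_conj' hcls.1 he hx h4
        rw [h1] at h7
        have h9 : c = e := h7.symm.trans h8
        rw [h9]
  · rintro ⟨h1, h2⟩
    have : Commute (e * c) x := h1.mul_left h2
    rw [this.eq, mul_inv_cancel_right]

open Classical in
theorem mod_three {e c : G} (he : e ∈ D) (hc : c ∈ D) (hec : ¬ Commute e c) :
    (DF D).card ≡ (NF D e ∩ NF D c).card [MOD 3] := by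
  have : Fact (Nat.Prime 3) := ⟨Nat.prime_three⟩
  have ht : (e * c) ^ 3 = 1 := mul_pow_three hcls.1 he hc hec
  let f : Function.End ↥(DF D) := fun x => ⟨(e * c) * x.1 * (e * c)⁻¹, mem_DF.2 (conj_mem hcls (mem_DF.1 x.2) _)⟩
  have hf : f ^ 3 ^ 1 = 1 := by
    rw [pow_one]
    funext x
    apply Subtype.ext
    change (e * c) * ((e * c) * ((e * c) * x.1 * (e * c)⁻¹) * (e * c)⁻¹) * (e * c)⁻¹ = x.1
    have : (e * c) * ((e * c) * ((e * c) * x.1 * (e * c)⁻¹) * (e * c)⁻¹) * (e * c)⁻¹ =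
      ((e * c) * ((e * c) * (e * c))) * x.1 * ((e * c) * ((e * c) * (e * c)))⁻¹ := by group
    rw [this, ← pow_three, ht]; simp
  have h1 := Equiv.Perm.card_fixedPoints_modEq (f := f) hf
  rw [Fintype.card_coe] at h1
  refine h1.trans ?_
  have h2 : Fintype.card f.fixedPoints = (NF D e ∩ NF D c).card := by
    rw [← Fintype.card_coe]
    apply Fintype.card_congr
    refine Equiv.ofBijective (fun x => (⟨x.1.1, ?_⟩ : ↥(NF D e ∩ NF D c))) ⟨?_, ?_⟩
    · have hx := x.2
      have hx2 : (e * c) * x.1.1 * (e * c)⁻¹ = x.1.1 := congrArg Subtype.val hx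
      have hxD := mem_DF.1 x.1.2
      obtain ⟨h3, h4⟩ := (fixed_iff hcls he hc hec hxD).1 hx2
      rw [mem_inter, mem_NF', mem_NF']
      refine ⟨⟨hxD, ?_, h3⟩, hxD, ?_, h4⟩
      · intro h; rw [h] at h4; exact hec h4.symm
      · intro h; rw [h] at h3; exact hec h3
    · intro x y hxy
      have := congrArg Subtype.val hxy
      exact Subtype.ext (Subtype.ext this)
    · rintro ⟨y, hy⟩
      rw [mem_inter, mem_NF', mem_NF'] at hy
      refine ⟨⟨⟨y, mem_DF.2 hy.1.1⟩, ?_⟩, rfl⟩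
      exact Subtype.ext ((fixed_iff hcls he hc hec hy.1.1).2 ⟨hy.1.2.2, hy.2.2.2⟩)
  rw [h2]

end line

end Cfsg.Agent.FW
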