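import Cfsg.Agent.FW.Tri

/-!
# Five commuting members do not have trivial product
-/

set_option autoImplicit false
set_option linter.unusedSectionVars false

namespace Cfsg.Agent.FW

open Cfsg.Agent.Fi22

open Finset Cfsg.Agent.ThreeTransp

variable {G : Type*} [Group G] {D : Set G} [Finite G]

namespace H22

variable (h : H22 D)
include h

theorem norel_five : ¬ ∃ l, IsFact D 5 1 l := by
  rintro ⟨l, h1, h2, h3, h4, h5⟩
  obtain ⟨a, y1, y2, y3, y4, rfl⟩ : ∃ a y1 y2 y3 y4, l = [a, y1, y2, y3, y4] := by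
    match l, h2 with
    | [a, y1, y2, y3, y4], _ => exact ⟨a, y1, y2, y3, y4, rfl⟩
  have ha := h3 a (by simp)
  simp only [List.nodup_cons, List.mem_cons, List.not_mem_nil, or_false, not_or, List.nodup_nil, and_true,
    not_false_eq_true] at h1
  obtain ⟨⟨n1, n2, n3, n4⟩, ⟨n12, n13, n14⟩, ⟨n23, n24⟩, n34⟩ := h1
  have hm : ∀ y ∈ [a, y1, y2, y3, y4], a ≠ y → y ∈ perp D a := fun y hy hne =>
    ⟨h3 y hy, fun k => hne k.symm, h4 a (by simp) y hy⟩
  refine h.no_four_pt ha (hm y1 (by simp) n1) (hm y2 (by simp) n2) (hm y3 (by simp) n3) (hm y4 (by simp) n4) n12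
    (fun k => n23 k.symm) (fun k => n24 k.symm) ?_ ?_
  · intro x hx y hy
    exact h4 x (List.mem_cons_of_mem _ hx) y (List.mem_cons_of_mem _ hy)
  · intro y hy
    have e1 : y1 * y2 * y3 * y4 = a⁻¹ := by
      simp only [List.prod_cons, List.prod_nil, mul_one] at h5
      rw [eq_inv_iff_mul_eq_one, ← h5]
      have h6 : Commute a (y1 * (y2 * (y3 * y4))) :=
        (h4 a (by simp) y1 (by simp)).mul_right ((h4 a (by simp) y2 (by simp)).mul_right
          ((h4 a (by simp) y3 (by simp)).mul_right (h4 a (by simp) y4 (by simp))))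
      rw [h6.eq]
      simp only [mul_assoc]
    rw [e1]
    exact hy.2.2.symm.inv_right


end H22

end Cfsg.Agent.FW
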