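import Cfsg.Agent.FW.Low5
import Cfsg.Agent.Fi22.EPar

/-!
# Octads
-/

set_option autoImplicit false
set_option linter.unusedSectionVars false

namespace Cfsg.Agent.FW

open Cfsg.Agent.Fi22

open Finset Matrix Module Cfsg.Agent.Uni Cfsg.Agent.ThreeTransp

variable {G : Type*} [Group G] {D : Set G} [Finite G]

theorem herm_comb2 {F : Type*} [Field F] [Fintype F] {n : ℕ} (hF : Fintype.card F = 2 ^ 2) {u v : Fin n → F}
    (hu : hermForm n F 2 u u = 0) (hv : hermForm n F 2 v v = 0)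
    (huv : hermForm n F 2 u v = 0) {x y x' y' : F} {p q : Fin n → F}
    (hp : p = x • u + y • v) (hq : q = x' • u + y' • v) : hermForm n F 2 p q = 0 := by
  have hvu : hermForm n F 2 v u = 0 := (hermForm_eq_zero_comm hF).1 huv
  rw [hp, hq]
  simp only [hermForm_add_left, hermForm_add_right hF, hermForm_smul_left, hermForm_smul_right, hu, hv,
    huv, hvu, mul_zero, add_zero]

theorem H22.line_fact (h : H22 D) {a : G} (ha : a ∈ D) {F : Type} [Field F] [Fintype F] (Δ : Dict D a F)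
    {u v : Fin 6 → F} (hu0 : u ≠ 0) (hnp : NP u v) (hu : hermForm 6 F 2 u u = 0) (hv : hermForm 6 F 2 v v = 0)
    (huv : hermForm 6 F 2 u v = 0) {ω : F} (hω : ω ^ 2 = ω + 1) :
    IsFact D 6 1 [a, Δ.pt u, Δ.pt v, Δ.pt (u + v), Δ.pt (u + ω • v), Δ.pt (u + ω ^ 2 • v)] := by
  have hF := Δ.hF
  have hω0 := omega_ne_zero hω
  have hω1 := omega_ne_one hF hω
  have hω2 : ω ^ 2 ≠ 0 := pow_ne_zero _ hω0
  have hω3 : ω ^ 2 ≠ 1 := by
    intro h1; rw [h1] at hω
    exact hω0 (by linear_combination -hω)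
  have hω4 : ω ≠ ω ^ 2 := by
    intro h1
    rcases sq_eq_self_iff'.1 h1.symm with h2 | h2
    · exact hω0 h2
    · exact hω1 h2
  have hL : ∀ z ∈ [u, v, u + v, u + ω • v, u + ω ^ 2 • v], ∃ α β : F, ¬ (α = 0 ∧ β = 0) ∧
      z = α • u + β • v := by
    simp only [List.mem_cons, List.not_mem_nil, or_false, forall_eq_or_imp, forall_eq]
    refine ⟨⟨1, 0, by simp, by simp⟩, ⟨0, 1, by simp, by simp⟩, ⟨1, 1, by simp, by simp⟩,
      ⟨1, ω, by simp, by simp⟩, ⟨1, ω ^ 2, by simp, by simp⟩⟩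
  have hl0 : ∀ z ∈ [u, v, u + v, u + ω • v, u + ω ^ 2 • v], z ≠ 0 ∧ hermForm 6 F 2 z z = 0 := by
    intro z hz
    obtain ⟨α, β, h1, h2⟩ := hL z hz
    refine ⟨fun h3 => h1 ?_, herm_comb2 hF hu hv huv h2 h2⟩
    rw [h2] at h3
    exact np_lin hu0 hnp h3
  have hl : ∀ z ∈ [u, v, u + v, u + ω • v, u + ω ^ 2 • v], ∀ z' ∈ [u, v, u + v, u + ω • v, u + ω ^ 2 • v],
      hermForm 6 F 2 z z' = 0 := by
    intro z hz z' hz'
    obtain ⟨α, β, h1, h2⟩ := hL z hz
    obtain ⟨α', β', h1', h2'⟩ := hL z' hz'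
    exact herm_comb2 hF hu hv huv h2 h2'
  have hcen := (Δ.central_iff hl0 hl).2 (rk_line hF hω u v)
  have hndv : ∀ z ∈ [u, v, u + v, u + ω • v, u + ω ^ 2 • v], ∀ z' ∈ [u, v, u + v, u + ω • v, u + ω ^ 2 • v],
      NP z z' → Δ.pt z ≠ Δ.pt z' := fun z hz z' hz' hn =>
    (Δ.pt_ne_iff (hl0 z hz).1 (hl0 z hz).2 (hl0 z' hz').1 (hl0 z' hz').2).2 hn
  have hone : u + v = u + (1 : F) • v := by rw [one_smul]
  have hnd : ([u, v, u + v, u + ω • v, u + ω ^ 2 • v].map Δ.pt).Nodup := by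
    simp only [List.map_cons, List.map_nil, List.nodup_cons, List.mem_cons, List.not_mem_nil, or_false, not_or,
      List.nodup_nil, and_true, not_false_eq_true]
    refine ⟨⟨?_, ?_, ?_, ?_⟩, ⟨?_, ?_, ?_⟩, ⟨?_, ?_⟩, ?_⟩
    · exact hndv _ (by simp) _ (by simp) hnp
    · refine hndv _ (by simp) _ (by simp) ?_
      rw [hone]; exact np_line_u hu0 hnp one_ne_zero
    · exact hndv _ (by simp) _ (by simp) (np_line_u hu0 hnp hω0)
    · exact hndv _ (by simp) _ (by simp) (np_line_u hu0 hnp hω2)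
    · refine hndv _ (by simp) _ (by simp) ?_
      rw [hone]; exact np_line_v hu0 hnp _
    · exact hndv _ (by simp) _ (by simp) (np_line_v hu0 hnp _)
    · exact hndv _ (by simp) _ (by simp) (np_line_v hu0 hnp _)
    · refine hndv _ (by simp) _ (by simp) ?_
      rw [hone]; exact np_line hu0 hnp hω1.symm
    · refine hndv _ (by simp) _ (by simp) ?_
      rw [hone]; exact np_line hu0 hnp hω3.symm
    · exact hndv _ (by simp) _ (by simp) (np_line hu0 hnp hω4)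
  set L := [u, v, u + v, u + ω • v, u + ω ^ 2 • v] with hLdef
  have hmem : ∀ y ∈ L.map Δ.pt, y ∈ perp D a := by
    intro y hy
    obtain ⟨z, hz, rfl⟩ := List.mem_map.1 hy
    exact Δ.pt_mem (hl0 z hz).1 (hl0 z hz).2
  have hcomm : ∀ y ∈ L.map Δ.pt, ∀ y' ∈ L.map Δ.pt, Commute y y' := by
    intro y hy y' hy'
    obtain ⟨z, hz, rfl⟩ := List.mem_map.1 hy
    obtain ⟨z', hz', rfl⟩ := List.mem_map.1 hy'
    exact (Δ.commute_pt (hl0 z hz).1 (hl0 z hz).2 (hl0 z' hz').1 (hl0 z' hz').2).2 (hl z hz z' hz')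
  have haa := mul_self h.cls.1 ha
  have hprod : (L.map Δ.pt).prod = a := by
    rcases h.centralizer_perp ha hcen with h1 | h1
    · exfalso
      exact h.norel_five ⟨_, hnd, by simp [hLdef], fun y hy => (hmem y hy).1, hcomm, h1⟩
    · exact h1
  have e0 : [a, Δ.pt u, Δ.pt v, Δ.pt (u + v), Δ.pt (u + ω • v), Δ.pt (u + ω ^ 2 • v)] = a :: L.map Δ.pt := rfl
  rw [e0]
  refine ⟨?_, by simp [hLdef], ?_, ?_, ?_⟩
  · rw [List.nodup_cons]
    exact ⟨fun h1 => (hmem a h1).2.1 rfl, hnd⟩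
  · intro y hy
    rcases List.mem_cons.1 hy with rfl | hy
    · exact ha
    · exact (hmem y hy).1
  · intro y hy y' hy'
    rcases List.mem_cons.1 hy with h1 | h1 <;> rcases List.mem_cons.1 hy' with h2 | h2
    · rw [h1, h2]
    · rw [h1]; exact (hmem _ h2).2.2
    · rw [h2]; exact (hmem _ h1).2.2.symm
    · exact hcomm _ h1 _ h2
  · rw [List.prod_cons, hprod, haa]

end Cfsg.Agent.FW
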