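import Cfsg.Agent.FW.Wid

/-!
# Orders
-/

set_option autoImplicit false
set_option linter.unusedSectionVars false

namespace Cfsg.Agent.FW

open Cfsg.Agent.Fi22

open Finset Matrix Module Cfsg.Agent.Uni Cfsg.Agent.ThreeTransp

variable {G : Type*} [Group G] {D : Set G}

theorem card_eq_mul [Finite G] (hcls : Cfsg.IsThreeTranspositionClass D) {d : G} (hd : d ∈ D) :
    Nat.card G = D.ncard * Nat.card (Subgroup.centralizer ({d} : Set G)) := by
  have h1 : MulAction.orbit (ConjAct G) d = D := by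
    ext x
    rw [MulAction.mem_orbit_iff]
    constructor
    · rintro ⟨g, rfl⟩
      rw [ConjAct.smul_def]
      exact conj_mem hcls hd _
    · intro hx
      obtain ⟨g, hg⟩ := exists_conj hcls hd hx
      exact ⟨ConjAct.toConjAct g, by rw [ConjAct.smul_def, ConjAct.ofConjAct_toConjAct, hg]⟩
  have h2 := (MulAction.stabilizer (ConjAct G) d).index_mul_card
  rw [MulAction.index_stabilizer, h1] at h2
  have h3 : Nat.card (MulAction.stabilizer (ConjAct G) d) = Nat.card (Subgroup.centralizer ({d} : Set G)) := by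
    rw [ConjAct.stabilizer_eq_centralizer]
    refine Nat.card_congr ⟨fun x => ⟨ConjAct.ofConjAct x.1, ?_⟩, fun x => ⟨ConjAct.toConjAct x.1, ?_⟩, fun x => rfl, fun x => rfl⟩
    · have := x.2
      exact this
    · exact x.2
  rw [h3] at h2
  rw [h2]
  rfl

theorem card_PSU_six {F : Type*} [Field F] [Fintype F] (hF : Fintype.card F = 2 ^ 2) :
    Nat.card (Cfsg.PSU 6 F 2) = 2 ^ 15 * 3 ^ 6 * 5 * 7 * 11 := by
  have h := Uni.card_PSU (n := 6) hF (by norm_num)
  have e : ∏ i ∈ Finset.range 6, (if Even i then 2 ^ (i + 1) + 1 else 2 ^ (i + 1) - 1) =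
      3 * 3 * 9 * 15 * 33 * 63 := by decide
  rw [e] at h
  norm_num at h ⊢
  omega

namespace H22

variable [Finite G] (h : H22 D)
include h

theorem card_closure {d : G} (hd : d ∈ D) :
    Nat.card (Subgroup.closure (perp D d)) = 2 ^ 16 * 3 ^ 6 * 5 * 7 * 11 := by
  obtain ⟨F, i1, i2, ⟨Δ⟩⟩ := h.dict hd
  have h1 := Subgroup.card_mul_index Δ.ψ.ker
  rw [Subgroup.index_ker, Δ.ker, h.center_closure_perp hd] at h1
  have h2 : Nat.card Δ.ψ.range = 2 ^ 15 * 3 ^ 6 * 5 * 7 * 11 := by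
    rw [MonoidHom.range_eq_top.2 Δ.surj, Subgroup.card_top, card_PSU_six Δ.hF]
  have h3 : Nat.card ((Subgroup.zpowers d).subgroupOf (Subgroup.closure (perp D d))) = 2 := by
    have h4 : Subgroup.zpowers d ≤ Subgroup.closure (perp D d) := by
      rw [Subgroup.zpowers_le]; exact h.mem_closure_perp hd
    rw [Nat.card_congr (Subgroup.subgroupOfEquivOfLe h4).toEquiv, Nat.card_zpowers, h.cls.1.1 d hd]
  rw [h2, h3] at h1
  rw [← h1]
  norm_num

theorem card_G : Nat.card G = 2 ^ 17 * 3 ^ 9 * 5 ^ 2 * 7 * 11 * 13 := by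
  obtain ⟨⟨d, hd⟩⟩ := h.conn.nonempty
  rw [card_eq_mul h.cls hd, h.centralizer_eq hd, h.card_closure hd, ← Nat.card_coe_set_eq, h.card_D]
  norm_num

end H22

end Cfsg.Agent.FW
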